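import Mathlib

/-!
# Compatible families along a functor into the fibres
-/

set_option autoImplicit false
universe v₁ v₂ v₃ u₁ u₂ u₃ w

open CategoryTheory CategoryTheory.Limits Opposite

namespace Groth.Agent.FibSiteLib

variable {C : Type u₁} [Category.{v₁} C] {B : Type u₂} [Category.{v₂} B]
  {E : Type u₃} [Category.{v₃} E]

section Rel

variable (L : GrothendieckTopology B) (Q : Bᵒᵖ ⥤ Type w)

/-- Local predicates on the sections of `Q` over the objects above `V`. -/
@[ext]
structure LocPred (V : B) where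
  /-- The predicate. -/
  rel : ∀ ⦃W : B⦄ (_ : W ⟶ V), Q.obj (op W) → Prop
  stable : ∀ ⦃W W' : B⦄ (h : W' ⟶ W) (g : W ⟶ V) (b : Q.obj (op W)),
    rel g b → rel (h ≫ g) (Q.map h.op b)
  loc : ∀ ⦃W : B⦄ (g : W ⟶ V) (b : Q.obj (op W)) (E : Sieve W), E ∈ L W →
    (∀ ⦃W' : B⦄ (h : W' ⟶ W), E h → rel (h ≫ g) (Q.map h.op b)) → rel g b

/-- The sheaf of local predicates. -/
def locPred : Bᵒᵖ ⥤ Type (max u₂ v₂ w) where
  obj V := LocPred L Q V.unop
  map {V V'} r := TypeCat.ofHom fun φ =>
    { rel := fun W g b => φ.rel (g ≫ r.unop) b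
      stable := fun W W' h g b hb => by simpa only [Category.assoc] using φ.stable h (g ≫ r.unop) b hb
      loc := fun W g b E hE hb => φ.loc (g ≫ r.unop) b E hE fun W' h hh => by
        simpa only [Category.assoc] using hb h hh }
  map_id V := by ext φ W g b; simp
  map_comp r r' := by ext φ W g b; simp [Category.assoc]

lemma locPred_map_rel {V V' : B} (r : V' ⟶ V) (φ : LocPred L Q V) {W : B} (g : W ⟶ V')
    (b : Q.obj (op W)) :
    LocPred.rel ((locPred L Q).map r.op φ : LocPred L Q V') g b = φ.rel (g ≫ r) b := rfl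

lemma isSheaf_locPred : Presieve.IsSheaf L (locPred L Q) := by
  intro V R hR x hx
  let X : ∀ ⦃W : B⦄ (v : W ⟶ V), R v → LocPred L Q W := fun W v hv => x v hv
  have hc : ∀ {W W' : B} (h : W' ⟶ W) (v : W ⟶ V) (hv : R v) (hv' : R (h ≫ v)) {Z : B}
      (g : Z ⟶ W') (b : Q.obj (op Z)), (X (h ≫ v) hv').rel g b = (X v hv).rel (g ≫ h) b := by
    intro W W' h v hv hv' Z g b
    have e := hx (𝟙 W') h hv' hv (by simp)
    have e' := congrArg (fun φ : LocPred L Q W' => φ.rel g b) e
    simpa only [locPred_map_rel, Category.comp_id] using e'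
  refine ⟨{
    rel := fun W g b => ∀ ⦃W' : B⦄ (h : W' ⟶ W) (hr : R (h ≫ g)),
      (X (h ≫ g) hr).rel (𝟙 W') (Q.map h.op b)
    stable := fun W W' k g b hb W'' h hr => by
      have hr' : R ((h ≫ k) ≫ g) := by simpa only [Category.assoc] using hr
      have := hb (h ≫ k) hr'
      simpa only [Category.assoc, op_comp, Functor.map_comp, ConcreteCategory.comp_apply] using this
    loc := fun W g b E hE hb W' h hr => (X (h ≫ g) hr).loc (𝟙 W') _ (E.pullback h)
      (L.pullback_stable h hE) fun W'' k hk => by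
        have hr' : R (k ≫ h ≫ g) := R.downward_closed hr k
        have := hb (k ≫ h) hk (𝟙 W'') (by simpa only [Category.id_comp, Category.assoc] using hr')
        simp only [Category.id_comp, op_id, CategoryTheory.Functor.map_id, ConcreteCategory.id_apply,
          Category.assoc] at this
        rw [hc k (h ≫ g) hr hr'] at this
        simpa only [Category.comp_id, Category.id_comp, op_comp, Functor.map_comp,
          ConcreteCategory.comp_apply] using this }, ?_, ?_⟩
  · intro W v hv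
    refine LocPred.ext ?_
    funext Z g b
    show (∀ ⦃Z' : B⦄ (h : Z' ⟶ Z) (hr : R (h ≫ g ≫ v)),
      (X (h ≫ g ≫ v) hr).rel (𝟙 Z') (Q.map h.op b)) = (X v hv).rel g b
    refine propext ⟨fun hb => ?_, fun hb Z' h hr => ?_⟩
    · have := hb (𝟙 Z) (by simpa using R.downward_closed hv g)
      simp only [Category.id_comp, op_id, CategoryTheory.Functor.map_id, ConcreteCategory.id_apply] at this
      rwa [hc g v hv, Category.id_comp] at this
    · have hr' : R ((h ≫ g) ≫ v) := by simpa only [Category.assoc] using hr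
      have := hc (h ≫ g) v hv hr' (𝟙 Z') (Q.map h.op b)
      simp only [Category.id_comp, Category.assoc] at this
      exact this.mpr ((X v hv).stable h g b hb)
  · intro ψ hψ
    refine LocPred.ext ?_
    funext W g b
    have key : ∀ {W' : B} (v : W' ⟶ V) (hv : R v) (b' : Q.obj (op W')),
        (X v hv).rel (𝟙 W') b' = LocPred.rel (ψ : LocPred L Q V) v b' := fun v hv b' => by
      rw [show X v hv = _ from (hψ v hv).symm, locPred_map_rel, Category.id_comp]
    refine propext ⟨fun hb W' h hr => ?_, fun hb => ?_⟩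
    · rw [key]; exact LocPred.stable _ h g b hb
    · refine LocPred.loc _ g b (R.pullback g) (L.pullback_stable g hR) fun W' h hr => ?_
      rw [← key _ hr]; exact hb h hr

variable {L Q}

/-- The local predicate of a section of a separated presheaf. -/
def toLocPred (hQ : Presieve.IsSeparated L Q) {V : B} (a : Q.obj (op V)) : LocPred L Q V where
  rel W g b := Q.map g.op a = b
  stable W W' h g b hb := by rw [← hb, op_comp, Functor.map_comp_apply]
  loc W g b E hE hb := (hQ E hE).ext fun W' h hh => by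
    rw [← hb h hh, op_comp, Functor.map_comp_apply]

lemma map_toLocPred (hQ : Presieve.IsSeparated L Q) {V V' : B} (r : V' ⟶ V) (a : Q.obj (op V)) :
    (locPred L Q).map r.op (toLocPred hQ a) = toLocPred hQ (Q.map r.op a) := by
  refine LocPred.ext ?_
  funext W g b
  show (Q.map (g ≫ r).op a = b) = (Q.map g.op (Q.map r.op a) = b)
  rw [op_comp, Functor.map_comp_apply]

lemma toLocPred_injective (hQ : Presieve.IsSeparated L Q) {V : B} {a b : Q.obj (op V)}
    (h : toLocPred hQ a = toLocPred hQ b) : a = b := by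
  have h' : (Q.map (𝟙 V).op a = a) = (Q.map (𝟙 V).op b = a) :=
    congrArg (fun φ : LocPred L Q V => φ.rel (𝟙 V) a) h
  have hb : Q.map (𝟙 V).op b = a := h'.mp (by simp)
  simpa using hb.symm

end Rel

/-- If `f : C ⥤ B` is continuous and `P` restricts to a separated presheaf on `B`, a compatible
family on a covering sieve of `C` gives compatible values on factorizations through `f`. -/
lemma eq_of_fac_eq {J : GrothendieckTopology C} {L : GrothendieckTopology B}
    (iC : C ⥤ E) (iB : B ⥤ E) (f : C ⥤ B) [f.IsContinuous J L] (c : f ⋙ iB ⟶ iC)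
    {P : Eᵒᵖ ⥤ Type w} (hP : Presieve.IsSeparated L (iB.op ⋙ P)) {U : C}
    {R : Sieve U} (hR : R ∈ J U) {x : Presieve.FamilyOfElements (iC.op ⋙ P) R.arrows}
    (hx : x.Compatible) {Y₁ Y₂ : C} {V : B} (ψ₁ : V ⟶ f.obj Y₁) (ψ₂ : V ⟶ f.obj Y₂)
    {v₁ : Y₁ ⟶ U} {v₂ : Y₂ ⟶ U} (hv₁ : R v₁) (hv₂ : R v₂)
    (hψ : ψ₁ ≫ f.map v₁ = ψ₂ ≫ f.map v₂) :
    P.map (iB.map ψ₁ ≫ c.app Y₁).op (x v₁ hv₁) = P.map (iB.map ψ₂ ≫ c.app Y₂).op (x v₂ hv₂) := by
  let Q' : Sheaf L (Type (max u₂ v₂ w)) :=
    ⟨locPred L (iB.op ⋙ P), (isSheaf_iff_isSheaf_of_type _ _).mpr (isSheaf_locPred L _)⟩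
  let y : Presieve.FamilyOfElements (f.op ⋙ Q'.obj) R.arrows := fun Y v hv =>
    toLocPred hP (P.map (c.app Y).op (x v hv) : (iB.op ⋙ P).obj (op (f.obj Y)))
  have key : ∀ {Z Z₀ : C} (g : Z ⟶ Z₀) (a : (iC.op ⋙ P).obj (op Z₀)),
      (iB.op ⋙ P).map (f.map g).op (P.map (c.app Z₀).op a) =
        P.map (c.app Z).op ((iC.op ⋙ P).map g.op a) := fun g a => by
    simp only [Functor.comp_map, Functor.op_map, Quiver.Hom.unop_op, ← ConcreteCategory.comp_apply,
      ← CategoryTheory.Functor.map_comp, ← op_comp]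
    exact congrArg (fun m => P.map m.op a) (c.naturality g)
  have hy : y.Compatible := by
    intro Z₁ Z₂ Z g₁ g₂ w₁ w₂ hw₁ hw₂ hw
    refine (map_toLocPred hP (f.map g₁) _).trans (Eq.trans ?_ (map_toLocPred hP (f.map g₂) _).symm)
    congr 1
    exact (key g₁ _).trans ((congrArg _ (hx g₁ g₂ hw₁ hw₂ hw)).trans (key g₂ _).symm)
  obtain ⟨a, ha, -⟩ := ((isSheaf_iff_isSheaf_of_type _ _).mp
    (Functor.op_comp_isSheaf f J L Q')) R hR y hy
  simp only [op_comp, CategoryTheory.Functor.map_comp, ConcreteCategory.comp_apply]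
  refine toLocPred_injective hP ((map_toLocPred hP ψ₁ _).symm.trans
    (Eq.trans ?_ (map_toLocPred hP ψ₂ _)))
  show Q'.obj.map ψ₁.op (y v₁ hv₁) = Q'.obj.map ψ₂.op (y v₂ hv₂)
  rw [← ha v₁ hv₁, ← ha v₂ hv₂]
  simp only [Functor.comp_map, Functor.op_map, Quiver.Hom.unop_op, ← ConcreteCategory.comp_apply,
    ← CategoryTheory.Functor.map_comp, ← op_comp, hψ]

end Groth.Agent.FibSiteLib
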