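import Groth.Prelude.Def_FibSite
import Groth.Agent.FibSiteLib.Compat
import Mathlib

/-!
# The total topology of a pre-fibred site
-/

set_option autoImplicit false
universe v₁ v₂ v₃ u₁ u₂ u₃ w

open CategoryTheory CategoryTheory.Limits Opposite Bicategory
open CategoryTheory.Pseudofunctor CategoryTheory.Pseudofunctor.CoGrothendieck

namespace Groth.Agent.FibSiteLib

variable {𝒮 : Type u₁} [Category.{v₁} 𝒮] {F : Pseudofunctor (LocallyDiscrete 𝒮ᵒᵖ) Cat.{v₂, u₂}}

/-- The cartesian morphism `⟨R, f^* Y⟩ ⟶ ⟨S, Y⟩`, between values of fibre inclusions. -/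
abbrev cart {R S : 𝒮} (f : R ⟶ S) (Y : F.obj ⟨op S⟩) :
    (ι F R).obj ((FibSite.invImage F f).obj Y) ⟶ (ι F S).obj Y :=
  CoGrothendieck.cartesianLift Y f

set_option backward.defeqAttrib.useBackward true in
set_option backward.isDefEq.respectTransparency false in
lemma ι_map_comp_cart {R S : 𝒮} (f : R ⟶ S) {V : F.obj ⟨op R⟩} (Y : F.obj ⟨op S⟩)
    (ψ : V ⟶ (FibSite.invImage F f).obj Y) :
    (ι F R).map ψ ≫ cart f Y = (⟨f, ψ⟩ : CoGrothendieck.Hom ((ι F R).obj V) ((ι F S).obj Y)) := by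
  ext
  · simp
  · simp [F.mapComp_id_right_inv_app, Strict.rightUnitor_eqToIso, ← NatTrans.naturality_assoc,
      ← Cat.Hom₂.comp_app, PrelaxFunctor.map₂_eqToHom]

set_option backward.defeqAttrib.useBackward true in
set_option backward.isDefEq.respectTransparency false in
lemma cart_natural {R S : 𝒮} (f : R ⟶ S) {Y U : F.obj ⟨op S⟩} (g : Y ⟶ U) :
    cart f Y ≫ (ι F S).map g = (ι F R).map ((FibSite.invImage F f).map g) ≫ cart f U := by
  rw [ι_map_comp_cart]
  ext
  · simp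
  · simp [F.mapComp_id_left_inv_app, Strict.leftUnitor_eqToIso, ← Functor.map_comp_assoc,
      ← Cat.Hom₂.comp_app, PrelaxFunctor.map₂_eqToHom]

variable {J : FibSite.Topologies F}

/-- The cartesian morphisms, as a natural transformation. -/
def cartNat {R S : 𝒮} (f : R ⟶ S) : FibSite.invImage F f ⋙ ι F R ⟶ ι F S where
  app Y := cart f Y
  naturality _ _ g := (cart_natural f g).symm

lemma exists_decomp {R S : 𝒮} {V : F.obj ⟨op R⟩} {Y : F.obj ⟨op S⟩}
    (g : (ι F R).obj V ⟶ (ι F S).obj Y) :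
    ∃ (f : R ⟶ S) (ψ : V ⟶ (FibSite.invImage F f).obj Y), g = (ι F R).map ψ ≫ cart f Y :=
  ⟨g.base, g.fiber, (ι_map_comp_cart (V := V) g.base Y g.fiber).symm⟩

set_option backward.defeqAttrib.useBackward true in
set_option backward.isDefEq.respectTransparency false in
lemma exists_ι_map_eq {S : 𝒮} {V Y : F.obj ⟨op S⟩} (g : (ι F S).obj V ⟶ (ι F S).obj Y)
    (hg : g.base = 𝟙 S) : ∃ φ : V ⟶ Y, g = (ι F S).map φ := by
  obtain ⟨b, ψ⟩ := g
  change S ⟶ S at b
  obtain rfl : b = 𝟙 S := hg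
  refine ⟨ψ ≫ (F.mapId ⟨op S⟩).hom.toNatTrans.app Y, ?_⟩
  ext <;> simp [← Cat.Hom₂.comp_app]

set_option backward.defeqAttrib.useBackward true in
set_option backward.isDefEq.respectTransparency false in
lemma ι_map_injective {S : 𝒮} {V Y : F.obj ⟨op S⟩} {φ φ' : V ⟶ Y}
    (h : (ι F S).map φ = (ι F S).map φ') : φ = φ' := by
  simpa [cancel_mono, ← Cat.Hom.toNatIso_hom,
    ← Cat.Hom.toNatIso_inv] using ((CoGrothendieck.Hom.ext_iff _ _).mp h).2

lemma base_ι_map_comp_cart {R S : 𝒮} (f : R ⟶ S) {V : F.obj ⟨op R⟩} (Y : F.obj ⟨op S⟩)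
    (ψ : V ⟶ (FibSite.invImage F f).obj Y) : ((ι F R).map ψ ≫ cart f Y).base = f := by
  rw [ι_map_comp_cart]

lemma eq_of_ι_map_comp_cart {R S : 𝒮} {f : R ⟶ S} {V : F.obj ⟨op R⟩} {Y : F.obj ⟨op S⟩}
    {ψ ψ' : V ⟶ (FibSite.invImage F f).obj Y}
    (h : (ι F R).map ψ ≫ cart f Y = (ι F R).map ψ' ≫ cart f Y) : ψ = ψ' := by
  rw [ι_map_comp_cart, ι_map_comp_cart] at h
  exact (CoGrothendieck.Hom.mk.injEq ..).mp h |>.2 |> eq_of_heq

lemma comp_cart_comp_ι {R S : 𝒮} (f : R ⟶ S) {V : F.obj ⟨op R⟩} {Y U : F.obj ⟨op S⟩}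
    (ψ : V ⟶ (FibSite.invImage F f).obj Y) (v : Y ⟶ U) :
    ((ι F R).map ψ ≫ cart f Y) ≫ (ι F S).map v =
      (ι F R).map (ψ ≫ (FibSite.invImage F f).map v) ≫ cart f U := by
  rw [Category.assoc, cart_natural, ← Category.assoc, ← Functor.map_comp]

lemma exists_of_comp_ι_map_eq {R : 𝒮} {V : F.obj ⟨op R⟩} {S : 𝒮} {Y₁ Y₂ U : F.obj ⟨op S⟩}
    {f₁ : (ι F R).obj V ⟶ (ι F S).obj Y₁} {f₂ : (ι F R).obj V ⟶ (ι F S).obj Y₂}
    {v₁ : Y₁ ⟶ U} {v₂ : Y₂ ⟶ U} (h : f₁ ≫ (ι F S).map v₁ = f₂ ≫ (ι F S).map v₂) :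
    ∃ (f : R ⟶ S) (ψ₁ : V ⟶ (FibSite.invImage F f).obj Y₁)
      (ψ₂ : V ⟶ (FibSite.invImage F f).obj Y₂),
      f₁ = (ι F R).map ψ₁ ≫ cart f Y₁ ∧ f₂ = (ι F R).map ψ₂ ≫ cart f Y₂ ∧
      ψ₁ ≫ (FibSite.invImage F f).map v₁ = ψ₂ ≫ (FibSite.invImage F f).map v₂ := by
  obtain ⟨b₁, ψ₁, rfl⟩ := exists_decomp f₁
  obtain ⟨b₂, ψ₂, rfl⟩ := exists_decomp f₂
  rw [comp_cart_comp_ι, comp_cart_comp_ι] at h
  obtain rfl : b₁ = b₂ := (base_ι_map_comp_cart b₁ U _).symm.trans
    ((congrArg CoGrothendieck.Hom.base h).trans (base_ι_map_comp_cart b₂ U _))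
  exact ⟨b₁, ψ₁, ψ₂, rfl, rfl, eq_of_ι_map_comp_cart h⟩

variable (J) in
/-- Covering sieves of the total site: those whose trace on the fibre is covering. -/
def fibreTopology (hF : FibSite.IsPreFibSite F J) : GrothendieckTopology (∫ᶜ F) where
  sieves X := {S | S.functorPullback (ι F X.base) ∈ J X.base X.fiber}
  top_mem' X := (J X.base).top_mem X.fiber
  pullback_stable' := by
    rintro ⟨R, U⟩ ⟨B, V⟩ S g hS
    change (ι F B).obj V ⟶ (ι F R).obj U at g
    obtain ⟨f, ψ, rfl⟩ := exists_decomp g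
    have := hF f
    refine (J B).superset_covering ?_ ((J B).pullback_stable ψ
      ((CoverPreserving.of_isContinuous (FibSite.invImage F f) (J R) (J B)).cover_preserve hS))
    rintro V' w ⟨W, v, h, hv, hw⟩
    show S ((ι F B).map w ≫ (ι F B).map ψ ≫ cart f U)
    have e : (ι F B).map w ≫ (ι F B).map ψ ≫ cart f U =
        ((ι F B).map h ≫ cart f W) ≫ (ι F R).map v := by
      rw [comp_cart_comp_ι, ← Category.assoc, ← Functor.map_comp, hw]
    exact (congrArg (fun m => S m) e).mpr (S.downward_closed hv _)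
  transitive' := by
    intro X S hS R h
    refine (J X.base).transitive hS _ fun V v hv => ?_
    refine (J X.base).superset_covering ?_ (h hv)
    intro W w hw
    show R ((ι F X.base).map (w ≫ v))
    rw [Functor.map_comp]
    exact hw

variable (hF : FibSite.IsPreFibSite F J)
include hF

theorem totalTopology_eq : FibSite.totalTopology F J = fibreTopology J hF := by
  refine le_antisymm (FibSite.totalTopology_le fun S U R hR => ?_) fun X S hS => ?_
  · exact (J S).superset_covering (fun _ v hv => Sieve.image_mem_functorPushforward (ι F S) R hv) hR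
  · refine (FibSite.totalTopology F J).superset_covering ?_
      (FibSite.functorPushforward_mem_totalTopology hS)
    rintro V w ⟨W, v, h, hv, rfl⟩
    exact S.downward_closed hv _

theorem mem_totalTopology_iff {X : ∫ᶜ F} (S : Sieve X) :
    S ∈ FibSite.totalTopology F J X ↔ S.functorPullback (ι F X.base) ∈ J X.base X.fiber := by
  rw [totalTopology_eq hF]; exact Iff.rfl

theorem isCocontinuous_ι (S : 𝒮) : (ι F S).IsCocontinuous (J S) (FibSite.totalTopology F J) :=
  ⟨fun hT => (mem_totalTopology_iff hF _).mp hT⟩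

omit hF in
theorem coverPreserving_ι (S : 𝒮) :
    CoverPreserving (J S) (FibSite.totalTopology F J) (ι F S) :=
  ⟨fun hR => FibSite.functorPushforward_mem_totalTopology hR⟩

omit hF in
/-- Restrictions of sheaves are separated. -/
lemma isSeparated_restr {P : (∫ᶜ F)ᵒᵖ ⥤ Type w}
    (hP : Presieve.IsSeparated (FibSite.totalTopology F J) P) (S : 𝒮) :
    Presieve.IsSeparated (J S) ((ι F S).op ⋙ P) := by
  intro U R hR x a b ha hb
  refine (hP _ (FibSite.functorPushforward_mem_totalTopology hR)).ext fun V g hg => ?_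
  obtain ⟨W, v, h, hv, rfl⟩ := hg
  simp only [op_comp, Functor.map_comp, ConcreteCategory.comp_apply]
  exact congrArg _ ((ha v hv).trans (hb v hv).symm)

theorem eq_of_comp_ι_map_eq {P : (∫ᶜ F)ᵒᵖ ⥤ Type w}
    (hP : Presieve.IsSeparated (FibSite.totalTopology F J) P) {B S : 𝒮} {V : F.obj ⟨op B⟩}
    {U : F.obj ⟨op S⟩} {R : Sieve U} (hR : R ∈ J S U)
    {x : Presieve.FamilyOfElements ((ι F S).op ⋙ P) R.arrows} (hx : x.Compatible)
    {Y₁ Y₂ : F.obj ⟨op S⟩} (f₁ : (ι F B).obj V ⟶ (ι F S).obj Y₁)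
    (f₂ : (ι F B).obj V ⟶ (ι F S).obj Y₂) {v₁ : Y₁ ⟶ U} {v₂ : Y₂ ⟶ U} (hv₁ : R v₁) (hv₂ : R v₂)
    (e : f₁ ≫ (ι F S).map v₁ = f₂ ≫ (ι F S).map v₂) :
    P.map f₁.op (x v₁ hv₁) = P.map f₂.op (x v₂ hv₂) := by
  obtain ⟨f, ψ₁, ψ₂, rfl, rfl, hψ⟩ := exists_of_comp_ι_map_eq e
  have := hF f
  exact eq_of_fac_eq (L := J B) (ι F S) (ι F B) (FibSite.invImage F f) (cartNat f)
    (isSeparated_restr hP B) hR hx ψ₁ ψ₂ hv₁ hv₂ hψ

/-- Fibre inclusions are continuous for the total topology. -/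
theorem isContinuous_ι (S : 𝒮) : (ι F S).IsContinuous (J S) (FibSite.totalTopology F J) where
  op_comp_isSheaf_of_types G U R hR x hx := by
    have hG := ((isSheaf_iff_isSheaf_of_type _ _).1 G.2).isSeparated
    have hx' : (x.functorPushforward (ι F S)).Compatible := by
      rintro Z₁ Z₂ ⟨B, V⟩ g₁ g₂ f₁ f₂ H₁ H₂ eq
      change (ι F B).obj V ⟶ Z₁ at g₁
      change (ι F B).obj V ⟶ Z₂ at g₂
      unfold Presieve.FamilyOfElements.functorPushforward
      rcases Presieve.getFunctorPushforwardStructure H₁ with ⟨X₁, v₁, h₁, hv₁, rfl⟩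
      rcases Presieve.getFunctorPushforwardStructure H₂ with ⟨X₂, v₂, h₂, hv₂, rfl⟩
      have := eq_of_comp_ι_map_eq hF (P := G.obj) hG hR hx (g₁ ≫ h₁) (g₂ ≫ h₂) hv₁ hv₂
        ((Category.assoc _ _ _).trans (eq.trans (Category.assoc _ _ _).symm))
      simp only [op_comp, CategoryTheory.Functor.map_comp, ConcreteCategory.comp_apply] at this
      exact this
    have H := (isSheaf_iff_isSheaf_of_type _ _).1 G.2 _ (FibSite.functorPushforward_mem_totalTopology hR)
    apply existsUnique_of_exists_of_unique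
    · refine ⟨H.amalgamate _ hx', fun V v hv => (H.isAmalgamation hx' ((ι F S).map v) ?_).trans ?_⟩
      · exact Sieve.image_mem_functorPushforward (ι F S) R hv
      · unfold Presieve.FamilyOfElements.functorPushforward
        rcases Presieve.getFunctorPushforwardStructure
          (Presieve.image_mem_functorPushforward (ι F S) R.arrows hv) with ⟨X₁, v₁, h₁, hv₁, eq⟩
        simpa using eq_of_comp_ι_map_eq hF (P := G.obj) hG hR hx h₁ (𝟙 _) hv₁ hv (by simp [eq])
    · intro a b ha hb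
      exact (isSeparated_restr hG S _ hR).ext fun V v hv => (ha v hv).trans (hb v hv).symm

theorem isSheaf_type_of_restr {P : (∫ᶜ F)ᵒᵖ ⥤ Type w}
    (hP : ∀ S, Presieve.IsSheaf (J S) ((ι F S).op ⋙ P)) :
    Presieve.IsSheaf (FibSite.totalTopology F J) P := by
  rintro ⟨R, U⟩ S hS x hx
  rw [mem_totalTopology_iff hF] at hS
  change S.functorPullback (ι F R) ∈ J R U at hS
  let y : Presieve.FamilyOfElements ((ι F R).op ⋙ P) (S.functorPullback (ι F R)).arrows :=
    fun V v hv => x ((ι F R).map v) hv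
  have hy : y.Compatible := fun Z₁ Z₂ Z g₁ g₂ v₁ v₂ hv₁ hv₂ h =>
    hx ((ι F R).map g₁) ((ι F R).map g₂) hv₁ hv₂ (((ι F R).map_comp g₁ v₁).symm.trans ((congrArg (ι F R).map h).trans ((ι F R).map_comp g₂ v₂)))
  obtain ⟨a, ha, huniq⟩ := hP R _ hS y hy
  refine ⟨a, ?_, fun b hb => huniq b fun V v hv => hb _ hv⟩
  rintro ⟨B, V⟩ g hg
  change (ι F B).obj V ⟶ (ι F R).obj U at g
  obtain ⟨f, ψ, rfl⟩ := exists_decomp g
  have := hF f
  refine ((hP B).isSeparated _ ((J B).pullback_stable ψ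
    ((CoverPreserving.of_isContinuous (FibSite.invImage F f) (J R) (J B)).cover_preserve hS))).ext ?_
  rintro V' w ⟨W, v, h, hv, hw⟩
  have e : (ι F B).map w ≫ (ι F B).map ψ ≫ cart f U =
      ((ι F B).map h ≫ cart f W) ≫ (ι F R).map v := by
    rw [comp_cart_comp_ι, ← Category.assoc, ← Functor.map_comp, hw]
  show P.map ((ι F B).map w).op (P.map ((ι F B).map ψ ≫ cart f U).op a) =
    P.map ((ι F B).map w).op (x ((ι F B).map ψ ≫ cart f U) hg)
  refine (Functor.map_comp_apply P ((ι F B).map ψ ≫ cart f U).op ((ι F B).map w).op a).symm.trans ?_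
  refine Eq.trans ?_ ((hx ((ι F B).map w) ((ι F B).map h ≫ cart f W) hg hv e).symm)
  rw [← op_comp]
  refine (congrArg (fun m => P.map (Quiver.Hom.op m) a) e).trans ?_
  simp only [op_comp, Functor.map_comp, ConcreteCategory.comp_apply]
  exact congrArg _ (congrArg _ (ha v hv))

/-- Sheaves on the total site are the presheaves whose restrictions to all fibres are sheaves. -/
theorem isSheaf_iff {A : Type u₃} [Category.{v₃} A] (P : (∫ᶜ F)ᵒᵖ ⥤ A) :
    Presheaf.IsSheaf (FibSite.totalTopology F J) P ↔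
      ∀ S : 𝒮, Presheaf.IsSheaf (J S) ((ι F S).op ⋙ P) := by
  refine ⟨fun h S => ?_, fun h E => isSheaf_type_of_restr hF fun S => h S E⟩
  have := isContinuous_ι hF S
  exact Functor.op_comp_isSheaf (ι F S) (J S) (FibSite.totalTopology F J) ⟨P, h⟩

theorem isContinuous_iff {D : Type u₃} [Category.{v₃} D] (K : GrothendieckTopology D)
    (m : ∫ᶜ F ⥤ D) :
    m.IsContinuous (FibSite.totalTopology F J) K ↔ ∀ S : 𝒮, (ι F S ⋙ m).IsContinuous (J S) K := by
  refine ⟨fun h S => ?_, fun h => ⟨fun G => isSheaf_type_of_restr hF fun S => ?_⟩⟩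
  · have := isContinuous_ι hF S
    exact Functor.isContinuous_comp (ι F S) m (J S) (FibSite.totalTopology F J) K
  · have := h S
    exact Functor.op_comp_isSheaf_of_types (ι F S ⋙ m) (J S) K G

theorem inducedTopology_eq (S : 𝒮) :
    (ι F S).inducedTopology (FibSite.totalTopology F J) = J S := by
  refine le_antisymm (fun U R hR => ?_)
    ((Functor.le_inducedTopology_iff (F := ι F S)).mpr (isContinuous_ι hF S))
  have h := (CoverPreserving.of_isContinuous (ι F S)
    ((ι F S).inducedTopology (FibSite.totalTopology F J)) (FibSite.totalTopology F J)).cover_preserve hR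
  rw [mem_totalTopology_iff hF] at h
  change (Sieve.functorPushforward (ι F S) R).functorPullback (ι F S) ∈ J S U at h
  refine (J S).superset_covering ?_ h
  rintro V v ⟨W, r, g, hr, hg⟩
  have hb : g.base = 𝟙 S :=
    (Category.comp_id g.base).symm.trans (congrArg CoGrothendieck.Hom.base hg).symm
  obtain ⟨φ, rfl⟩ := exists_ι_map_eq g hb
  rw [← Functor.map_comp] at hg
  rw [ι_map_injective hg]
  exact R.downward_closed hr φ

end Groth.Agent.FibSiteLib
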