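import Groth.Agent.FibSiteLib.Retract

/-!
# Extension and coextension of sheaves from one fibre to another
-/

set_option autoImplicit false
universe u

open CategoryTheory CategoryTheory.Limits Opposite
open CategoryTheory.Pseudofunctor CategoryTheory.Pseudofunctor.CoGrothendieck

namespace Groth.Agent.FibSiteLib

section Ran

variable {C D : Type u} [SmallCategory C] [SmallCategory D] (G : C ⥤ D) {P : Cᵒᵖ ⥤ Type u}
  [∀ (P : Cᵒᵖ ⥤ Type u), G.op.HasPointwiseRightKanExtension P]

/-- Reading an element of the right Kan extension along `g : G c ⟶ d`. -/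
noncomputable def ranRead {d : D} {c : C} (g : G.obj c ⟶ d) (x : (G.op.ran.obj P).obj (op d)) :
    P.obj (op c) :=
  (G.op.ranCounit.app P).app (op c) ((G.op.ran.obj P).map g.op x)

lemma ranRead_comp_map {d : D} {c c' : C} (h : c' ⟶ c) (g : G.obj c ⟶ d)
    (x : (G.op.ran.obj P).obj (op d)) :
    ranRead G (G.map h ≫ g) x = P.map h.op (ranRead G g x) := by
  simp only [ranRead, op_comp, Functor.map_comp_apply]
  exact (G.op.ranCounit.app P).naturality_apply h.op ((G.op.ran.obj P).map g.op x)

lemma ranRead_ext {d : D} {x y : (G.op.ran.obj P).obj (op d)}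
    (h : ∀ (c : C) (g : G.obj c ⟶ d), ranRead G g x = ranRead G g y) : x = y := by
  have e : (TypeCat.ofHom fun _ : PUnit.{u + 1} => x) = TypeCat.ofHom fun _ => y :=
    (G.op.isPointwiseRightKanExtensionRanCounit P (op d)).hom_ext fun j => by
      ext z
      exact h j.right.unop j.hom.unop
  exact ConcreteCategory.congr_hom e PUnit.unit

lemma exists_ranRead {d : D} (Φ : ∀ c : C, (G.obj c ⟶ d) → P.obj (op c))
    (hΦ : ∀ (c c' : C) (h : c' ⟶ c) (g : G.obj c ⟶ d), Φ c' (G.map h ≫ g) = P.map h.op (Φ c g)) :
    ∃ x : (G.op.ran.obj P).obj (op d), ∀ c g, ranRead G g x = Φ c g := by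
  let s : Cone (StructuredArrow.proj (op d) G.op ⋙ P) :=
    { pt := PUnit.{u + 1}
      π :=
        { app := fun j => TypeCat.ofHom fun _ => Φ j.right.unop j.hom.unop
          naturality := fun j j' φ => by
            ext z
            have hw : G.map φ.right.unop ≫ j.hom.unop = j'.hom.unop := by
              rw [← StructuredArrow.w φ]; rfl
            show Φ j'.right.unop j'.hom.unop = P.map φ.right (Φ j.right.unop j.hom.unop)
            rw [← hw]
            exact hΦ _ _ φ.right.unop j.hom.unop } }
  let hc := G.op.isPointwiseRightKanExtensionRanCounit P (op d)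
  exact ⟨hc.lift s PUnit.unit, fun c g =>
    ConcreteCategory.congr_hom (hc.fac s (StructuredArrow.mk g.op)) PUnit.unit⟩

end Ran

variable {𝒮 : Type u} [SmallCategory 𝒮] {F : Pseudofunctor (LocallyDiscrete 𝒮ᵒᵖ) Cat.{u, u}}

lemma bijective_read_cart (i j : 𝒮)
    [∀ (P : (F.obj ⟨op i⟩)ᵒᵖ ⥤ Type u), (ι F i).op.HasPointwiseRightKanExtension P]
    (P : (F.obj ⟨op i⟩)ᵒᵖ ⥤ Type u) (V : F.obj ⟨op j⟩) :
    Function.Bijective fun (x : ((ι F i).op.ran.obj P).obj (op ((ι F j).obj V))) (f : i ⟶ j) =>
      ranRead (ι F i) (cart f V) x := by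
  refine ⟨fun x y h => ranRead_ext _ fun W g => ?_, fun z => ?_⟩
  · obtain ⟨f, ψ, rfl⟩ := exists_decomp g
    rw [ranRead_comp_map, ranRead_comp_map]
    exact congrArg _ (congrFun h f)
  · let Φ : ∀ W : F.obj ⟨op i⟩, ((ι F i).obj W ⟶ (ι F j).obj V) → P.obj (op W) :=
      fun W g => P.map (g.fiber : W ⟶ (FibSite.invImage F (g.base : i ⟶ j)).obj V).op (z g.base)
    have hΦ : ∀ (W : F.obj ⟨op i⟩) (f : i ⟶ j) (ψ : W ⟶ (FibSite.invImage F f).obj V),
        Φ W ((ι F i).map ψ ≫ cart f V) = P.map ψ.op (z f) := fun W f ψ => by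
      rw [ι_map_comp_cart]; rfl
    obtain ⟨x, hx⟩ := exists_ranRead (ι F i) Φ fun W W' h g => by
      obtain ⟨f, ψ, rfl⟩ := exists_decomp g
      rw [← Category.assoc, ← Functor.map_comp, hΦ, hΦ, op_comp, Functor.map_comp_apply]
    refine ⟨x, funext fun f => (hx _ _).trans ?_⟩
    have := hΦ ((FibSite.invImage F f).obj V) f (𝟙 _)
    simp only [CategoryTheory.Functor.map_id, Category.id_comp, op_id] at this
    exact this

lemma ranRead_cart_map {i j : 𝒮}
    [∀ (P : (F.obj ⟨op i⟩)ᵒᵖ ⥤ Type u), (ι F i).op.HasPointwiseRightKanExtension P]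
    {P : (F.obj ⟨op i⟩)ᵒᵖ ⥤ Type u} (f : i ⟶ j) {V W : F.obj ⟨op j⟩} (h : W ⟶ V)
    (x : ((ι F i).op.ran.obj P).obj (op ((ι F j).obj V))) :
    ranRead (ι F i) (cart f W) (((ι F i).op.ran.obj P).map ((ι F j).map h).op x) =
      P.map ((FibSite.invImage F f).map h).op (ranRead (ι F i) (cart f V) x) := by
  rw [← ranRead_comp_map, ← cart_natural]
  simp only [ranRead, op_comp, Functor.map_comp_apply]

variable {J : FibSite.Topologies F}
  [∀ S : 𝒮, (ι F S).IsContinuous (J S) (FibSite.totalTopology F J)]
  [∀ (R S : 𝒮) (f : R ⟶ S), (FibSite.invImage F f).IsContinuous (J S) (J R)]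

variable (J) in
/-- The comparison of the restrictions to two fibres along a morphism of the base. -/
noncomputable def σ {R S : 𝒮} (f : R ⟶ S) :
    FibSite.restr F J (Type u) S ⟶ FibSite.restr F J (Type u) R ⋙
      (FibSite.invImage F f).sheafPushforwardContinuous (Type u) (J S) (J R) where
  app P := ⟨Functor.whiskerRight (NatTrans.op (cartNat f)) P.obj⟩
  naturality P Q g := by
    ext V x
    exact (NatTrans.naturality_apply g.hom _ x).symm

section Co

variable (i : 𝒮) [(ι F i).IsCocontinuous (J i) (FibSite.totalTopology F J)]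
  [∀ (P : (F.obj ⟨op i⟩)ᵒᵖ ⥤ Type u), (ι F i).op.HasPointwiseRightKanExtension P]

/-- The projections from the coextension. -/
noncomputable def coπ {j : 𝒮} (f : i ⟶ j) :
    FibSite.coextend F J (Type u) i ⋙ FibSite.restr F J (Type u) j ⟶
      (FibSite.invImage F f).sheafPushforwardContinuous (Type u) (J j) (J i) where
  app a := (σ J f).app ((FibSite.coextend F J (Type u) i).obj a) ≫
    ((FibSite.invImage F f).sheafPushforwardContinuous (Type u) (J j) (J i)).map
      (((ι F i).sheafAdjunctionCocontinuous (Type u) (J i) (FibSite.totalTopology F J)).counit.app a)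
  naturality a b g := by
    have h1 := (σ J f).naturality ((FibSite.coextend F J (Type u) i).map g)
    have h2 := congrArg ((FibSite.invImage F f).sheafPushforwardContinuous (Type u) (J j) (J i)).map
      (((ι F i).sheafAdjunctionCocontinuous (Type u) (J i) (FibSite.totalTopology F J)).counit.naturality g)
    simp only [Functor.map_comp] at h2
    refine (Category.assoc _ _ _).symm.trans ((congrArg (fun m => m ≫ _) h1).trans ?_)
    refine (Category.assoc _ _ _).trans (Eq.trans ?_ (Category.assoc _ _ _).symm)
    exact congrArg (fun m => (σ J f).app _ ≫ m) h2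

lemma coπ_app_apply {j : 𝒮} (f : i ⟶ j) (a : Sheaf (J i) (Type u)) (V : F.obj ⟨op j⟩)
    (x : ((ι F i).op.ran.obj a.obj).obj (op ((ι F j).obj V))) :
    ((coπ i f).app a).hom.app (op V) x = ranRead (ι F i) (cart f V) x := by
  have h := (ι F i).sheafAdjunctionCocontinuous_counit_app_hom (Type u) (J i)
    (FibSite.totalTopology F J) a
  rw [Functor.ranAdjunction_counit] at h
  show (((ι F i).sheafAdjunctionCocontinuous (Type u) (J i)
    (FibSite.totalTopology F J)).counit.app a).hom.app _ _ = _
  rw [h]
  rfl

/-- The coextension restricted to another fibre is a product. -/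
noncomputable def isLimitCoFan (j : 𝒮) (a : Sheaf (J i) (Type u)) :
    IsLimit (Fan.mk (f := fun f : i ⟶ j =>
        ((FibSite.invImage F f).sheafPushforwardContinuous (Type u) (J j) (J i)).obj a)
      ((FibSite.coextend F J (Type u) i ⋙ FibSite.restr F J (Type u) j).obj a)
      fun f => (coπ i f).app a) :=
  Fan.IsLimit.mk _
    (fun s => ⟨{
      app := fun V => TypeCat.ofHom fun z =>
        ((bijective_read_cart i j a.obj V.unop).2 fun f => (s.proj f).hom.app V z).choose
      naturality := fun V W h => by
        ext z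
        apply (bijective_read_cart i j a.obj W.unop).1
        funext f
        refine (congrFun (((bijective_read_cart i j a.obj W.unop).2 _).choose_spec) f).trans ?_
        refine (NatTrans.naturality_apply (s.proj f).hom h z).trans ?_
        refine Eq.trans ?_ (ranRead_cart_map f h.unop _).symm
        exact congrArg _ (congrFun (((bijective_read_cart i j a.obj V.unop).2
          fun f => (s.proj f).hom.app V z).choose_spec) f).symm }⟩)
    (fun s f => by
      ext V z
      exact (coπ_app_apply i f a V.unop _).trans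
        (congrFun (((bijective_read_cart i j a.obj V.unop).2 _).choose_spec) f))
    (fun s m hm => by
      ext V z
      apply (bijective_read_cart i j a.obj V.unop).1
      funext f
      refine Eq.trans ?_ (congrFun (((bijective_read_cart i j a.obj V.unop).2 _).choose_spec) f).symm
      show ranRead (ι F i) (cart f V.unop) _ = _
      rw [← coπ_app_apply, ← hm f]
      rfl)

end Co

section Ext

variable (i j : 𝒮)
  [((ι F i).sheafPushforwardContinuous (Type u) (J i) (FibSite.totalTopology F J)).IsRightAdjoint]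
  [∀ (R S : 𝒮) (f : R ⟶ S),
    ((FibSite.invImage F f).sheafPushforwardContinuous (Type u) (J S) (J R)).IsRightAdjoint]

variable {i j} in
/-- The injections into the restricted extension. -/
noncomputable def extι (f : j ⟶ i) :
    (FibSite.invImage F f).sheafPullback (Type u) (J i) (J j) ⟶
      FibSite.extend F J (Type u) i ⋙ FibSite.restr F J (Type u) j where
  app a := (((FibSite.invImage F f).sheafAdjunctionContinuous (Type u) (J i) (J j)).homEquiv a _).symm
    (((ι F i).sheafAdjunctionContinuous (Type u) (J i) (FibSite.totalTopology F J)).unit.app a ≫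
      (σ J f).app _)
  naturality a b g := by
    apply (((FibSite.invImage F f).sheafAdjunctionContinuous (Type u) (J i) (J j)).homEquiv a _).injective
    rw [Adjunction.homEquiv_naturality_left, Adjunction.homEquiv_naturality_right,
      Equiv.apply_symm_apply, Equiv.apply_symm_apply, Category.assoc]
    refine Eq.trans ?_ (congrArg
      (fun m => ((ι F i).sheafAdjunctionContinuous (Type u) (J i) (FibSite.totalTopology F J)).unit.app a ≫ m)
      ((σ J f).naturality ((FibSite.extend F J (Type u) i).map g)))
    exact (((ι F i).sheafAdjunctionContinuous (Type u) (J i)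
      (FibSite.totalTopology F J)).unit_naturality_assoc g _).symm

variable [(ι F j).IsCocontinuous (J j) (FibSite.totalTopology F J)]
  [∀ (P : (F.obj ⟨op j⟩)ᵒᵖ ⥤ Type u), (ι F j).op.HasPointwiseRightKanExtension P]

lemma homEquiv_extι_comp (f : j ⟶ i) (a : Sheaf (J i) (Type u)) (b : Sheaf (J j) (Type u))
    (g : (FibSite.restr F J (Type u) j).obj ((FibSite.extend F J (Type u) i).obj a) ⟶ b) :
    ((FibSite.invImage F f).sheafAdjunctionContinuous (Type u) (J i) (J j)).homEquiv a b
        ((extι f).app a ≫ g) =
      ((ι F i).sheafAdjunctionContinuous (Type u) (J i) (FibSite.totalTopology F J)).homEquiv a _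
        (((ι F j).sheafAdjunctionCocontinuous (Type u) (J j) (FibSite.totalTopology F J)).homEquiv _ b g) ≫
        (coπ j f).app b := by
  rw [Adjunction.homEquiv_naturality_right]
  simp only [extι, Equiv.apply_symm_apply, Category.assoc, Adjunction.homEquiv_unit]
  congr 1
  let ĝ := ((ι F j).sheafAdjunctionCocontinuous (Type u) (J j) (FibSite.totalTopology F J)).homEquiv
    ((FibSite.extend F J (Type u) i).obj a) b g
  have hg : g = (FibSite.restr F J (Type u) j).map ĝ ≫
      ((ι F j).sheafAdjunctionCocontinuous (Type u) (J j) (FibSite.totalTopology F J)).counit.app b := by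
    exact (Equiv.symm_apply_apply _ g).symm.trans (Adjunction.homEquiv_counit ((ι F j).sheafAdjunctionCocontinuous (Type u) (J j) (FibSite.totalTopology F J)) _ _ ĝ)
  conv_lhs => rw [hg, Functor.map_comp]
  simp only [coπ]
  erw [← (σ J f).naturality_assoc ĝ]
  simp only [ĝ, Adjunction.homEquiv_unit]

/-- The restriction of an extension to another fibre is a coproduct. -/
noncomputable def isColimitExtCofan (a : Sheaf (J i) (Type u)) :
    IsColimit (Cofan.mk (f := fun f : j ⟶ i =>
        ((FibSite.invImage F f).sheafPullback (Type u) (J i) (J j)).obj a)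
      ((FibSite.extend F J (Type u) i ⋙ FibSite.restr F J (Type u) j).obj a)
      fun f => (extι f).app a) :=
  Cofan.IsColimit.mk _
    (fun s => (((ι F j).sheafAdjunctionCocontinuous (Type u) (J j) (FibSite.totalTopology F J)).homEquiv _ _).symm
      ((((ι F i).sheafAdjunctionContinuous (Type u) (J i) (FibSite.totalTopology F J)).homEquiv a _).symm
        (Fan.IsLimit.lift (isLimitCoFan j i s.pt) fun f =>
          ((FibSite.invImage F f).sheafAdjunctionContinuous (Type u) (J i) (J j)).homEquiv a s.pt (s.inj f))))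
    (fun s f => by
      apply (((FibSite.invImage F f).sheafAdjunctionContinuous (Type u) (J i) (J j)).homEquiv a s.pt).injective
      refine (homEquiv_extι_comp i j f a s.pt _).trans ?_
      rw [Equiv.apply_symm_apply, Equiv.apply_symm_apply]
      exact Fan.IsLimit.fac _ _ f)
    (fun s m hm => by
      rw [Equiv.eq_symm_apply, Equiv.eq_symm_apply]
      refine Fan.IsLimit.hom_ext (isLimitCoFan j i s.pt) _ _ fun f => ?_
      rw [Fan.IsLimit.fac, ← hm f]
      exact (homEquiv_extι_comp i j f a s.pt m).symm)

end Ext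

end Groth.Agent.FibSiteLib

namespace Groth.Agent.FibSiteLib

variable {𝒮 : Type u} [SmallCategory 𝒮] {F : Pseudofunctor (LocallyDiscrete 𝒮ᵒᵖ) Cat.{u, u}}
  {J : FibSite.Topologies F}
  [∀ S : 𝒮, (ι F S).IsContinuous (J S) (FibSite.totalTopology F J)]
  [∀ (R S : 𝒮) (f : R ⟶ S), (FibSite.invImage F f).IsContinuous (J S) (J R)]
  {i j : 𝒮}
  [((ι F i).sheafPushforwardContinuous (Type u) (J i) (FibSite.totalTopology F J)).IsRightAdjoint]
  [∀ (R S : 𝒮) (f : R ⟶ S),
    ((FibSite.invImage F f).sheafPushforwardContinuous (Type u) (J S) (J R)).IsRightAdjoint]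
  [(ι F j).IsCocontinuous (J j) (FibSite.totalTopology F J)]

lemma isIso_extι [Subsingleton (j ⟶ i)] (f : j ⟶ i) : IsIso (extι (J := J) f) := by
  have : ∀ a, IsIso ((extι (J := J) f).app a) := fun a => by
    let hc := isColimitExtCofan i j (J := J) a
    let s : Cofan fun g : j ⟶ i => ((FibSite.invImage F g).sheafPullback (Type u) (J i) (J j)).obj a :=
      Cofan.mk (((FibSite.invImage F f).sheafPullback (Type u) (J i) (J j)).obj a)
        fun g => eqToHom (by rw [Subsingleton.elim g f])
    refine ⟨Cofan.IsColimit.desc hc s.inj, Cofan.IsColimit.fac hc s.inj f, ?_⟩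
    refine Cofan.IsColimit.hom_ext hc _ _ fun g => ?_
    obtain rfl := Subsingleton.elim g f
    rw [Cofan.IsColimit.fac_assoc]
    exact (Category.id_comp _).trans (Category.comp_id _).symm
  exact NatIso.isIso_of_isIso_app _

end Groth.Agent.FibSiteLib

namespace Groth.Agent.FibSiteLib

variable {𝒮 : Type u} [SmallCategory 𝒮] {F : Pseudofunctor (LocallyDiscrete 𝒮ᵒᵖ) Cat.{u, u}}

set_option backward.defeqAttrib.useBackward true in
set_option backward.isDefEq.respectTransparency false in
lemma cart_id (S : 𝒮) (V : F.obj ⟨op S⟩) :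
    cart (𝟙 S) V = (ι F S).map ((F.mapId ⟨op S⟩).hom.toNatTrans.app V) := by
  ext
  · simp
  · simp [← Cat.Hom₂.comp_app]

lemma isIso_cart_id (S : 𝒮) (V : F.obj ⟨op S⟩) : IsIso (cart (𝟙 S) V) := by
  rw [cart_id]
  have : IsIso ((F.mapId ⟨op S⟩).hom.toNatTrans.app V) :=
    ((Cat.Hom.toNatIso (F.mapId ⟨op S⟩)).app V).isIso_hom
  exact Functor.map_isIso (ι F S) _

variable {J : FibSite.Topologies F}

/-- Left exactness of the extension from a final fibre. -/
theorem preservesFiniteLimits_extend (hF : FibSite.IsFibSite F J) (i : 𝒮) (hi : IsTerminal i)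
    [(ι F i).IsContinuous (J i) (FibSite.totalTopology F J)]
    [((ι F i).sheafPushforwardContinuous (Type u) (J i) (FibSite.totalTopology F J)).IsRightAdjoint] :
    PreservesFiniteLimits (FibSite.extend F J (Type u) i) := by
  have hTot : HasFiniteLimits (FibSite.TotSh F J (Type u)) := inferInstance
  have hFib : ∀ S : 𝒮, HasFiniteLimits (Sheaf (J S) (Type u)) := fun S => inferInstance
  have := isContinuous_ι hF.isPreFibSite
  have := fun (R S : 𝒮) (f : R ⟶ S) => (hF f).1
  have := fun (R S : 𝒮) (f : R ⟶ S) => (hF f).2.1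
  refine ⟨fun K _ _ => ⟨fun {D} => ?_⟩⟩
  have : HasLimitsOfShape K (FibSite.TotSh F J (Type u)) := hTot.out K
  have : ∀ S : 𝒮, HasLimitsOfShape K (Sheaf (J S) (Type u)) := fun S => (hFib S).out K
  have hl : ∀ D' : K ⥤ FibSite.TotSh F J (Type u), HasLimit D' := fun D' => (hTot.out K).has_limit D'
  have hl' : ∀ (S : 𝒮) (D' : K ⥤ Sheaf (J S) (Type u)), HasLimit D' := fun S D' => ((hFib S).out K).has_limit D'
  have key : ∀ S : 𝒮, IsIso ((FibSite.restr F J (Type u) S).map
      (limit.post D (FibSite.extend F J (Type u) i))) := fun S => by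
    have := isCocontinuous_ι hF.isPreFibSite S
    have : Subsingleton (S ⟶ i) := ⟨hi.hom_ext⟩
    have := isIso_extι (J := J) (hi.from S)
    have : PreservesFiniteLimits ((FibSite.invImage F (hi.from S)).sheafPullback (Type u) (J i) (J S)) :=
      (hF (hi.from S)).2.2
    have : PreservesFiniteLimits (FibSite.extend F J (Type u) i ⋙ FibSite.restr F J (Type u) S) :=
      preservesFiniteLimits_of_natIso (asIso (extι (J := J) (hi.from S)))
    have hP : PreservesLimit D (FibSite.extend F J (Type u) i ⋙ FibSite.restr F J (Type u) S) :=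
      (PreservesFiniteLimits.preservesFiniteLimits K).preservesLimit
    have h : IsIso (limit.post D (FibSite.extend F J (Type u) i ⋙ FibSite.restr F J (Type u) S)) := by
      show IsIso (preservesLimitIso (FibSite.extend F J (Type u) i ⋙ FibSite.restr F J (Type u) S) D).hom
      exact Iso.isIso_hom _
    rw [← limit.post_post] at h
    exact IsIso.of_isIso_comp_right ((FibSite.restr F J (Type u) S).map
      (limit.post D (FibSite.extend F J (Type u) i)))
      (limit.post (D ⋙ FibSite.extend F J (Type u) i) (FibSite.restr F J (Type u) S))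
  have : IsIso (limit.post D (FibSite.extend F J (Type u) i)) := by
    have h : ∀ X, IsIso ((limit.post D (FibSite.extend F J (Type u) i)).hom.app X) := fun X => by
      have := key X.unop.base
      exact inferInstanceAs (IsIso ((((sheafToPresheaf _ _).map
        ((FibSite.restr F J (Type u) X.unop.base).map
          (limit.post D (FibSite.extend F J (Type u) i)))).app (op X.unop.fiber))))
    have : IsIso ((sheafToPresheaf _ _).map (limit.post D (FibSite.extend F J (Type u) i))) :=
      NatIso.isIso_of_isIso_app (limit.post D (FibSite.extend F J (Type u) i)).hom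
    exact isIso_of_reflects_iso _ (sheafToPresheaf _ _)
  exact preservesLimit_of_isIso_post _ _

/-- The extension from a final fibre is fully faithful. -/
theorem fullyFaithful_extend (hF : FibSite.IsFibSite F J) (i : 𝒮) (hi : IsTerminal i)
    [(ι F i).IsContinuous (J i) (FibSite.totalTopology F J)]
    [((ι F i).sheafPushforwardContinuous (Type u) (J i) (FibSite.totalTopology F J)).IsRightAdjoint] :
    (FibSite.extend F J (Type u) i).Full ∧ (FibSite.extend F J (Type u) i).Faithful := by
  have := isContinuous_ι hF.isPreFibSite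
  have := fun (R S : 𝒮) (f : R ⟶ S) => (hF f).1
  have := fun (R S : 𝒮) (f : R ⟶ S) => (hF f).2.1
  have := isCocontinuous_ι hF.isPreFibSite i
  have : Subsingleton (i ⟶ i) := ⟨hi.hom_ext⟩
  have hc := isIso_extι (J := J) (𝟙 i)
  let e : FibSite.invImage F (𝟙 i) ≅ 𝟭 _ := Cat.Hom.toNatIso (F.mapId ⟨op i⟩)
  have : ((FibSite.invImage F (𝟙 i)).sheafPushforwardContinuous (Type u) (J i) (J i)).IsEquivalence :=
    Functor.isEquivalence_of_iso (Functor.sheafPushforwardContinuousId' e (Type u) (J i)).symm
  let adj := (FibSite.invImage F (𝟙 i)).sheafAdjunctionContinuous (Type u) (J i) (J i)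
  have := adj.isEquivalence_left_of_isEquivalence_right
  let adjE := (ι F i).sheafAdjunctionContinuous (Type u) (J i) (FibSite.totalTopology F J)
  have hσ : ∀ P, IsIso ((σ J (𝟙 i)).app P) := fun P => by
    have : ∀ X, IsIso (((σ J (𝟙 i)).app P).hom.app X) := fun X => by
      have := isIso_cart_id i X.unop
      exact inferInstanceAs (IsIso (P.obj.map (cart (𝟙 i) X.unop).op))
    have : IsIso ((sheafToPresheaf _ _).map ((σ J (𝟙 i)).app P)) :=
      NatIso.isIso_of_isIso_app ((σ J (𝟙 i)).app P).hom
    exact isIso_of_reflects_iso _ (sheafToPresheaf _ _)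
  have hu : ∀ a, IsIso (adjE.unit.app a) := fun a => by
    have := hσ ((FibSite.extend F J (Type u) i).obj a)
    have h : adjE.unit.app a ≫ (σ J (𝟙 i)).app _ = adj.homEquiv a _ ((extι (J := J) (𝟙 i)).app a) :=
      ((adj.homEquiv a _).apply_symm_apply _).symm
    rw [Adjunction.homEquiv_unit] at h
    have : IsIso (adjE.unit.app a ≫ (σ J (𝟙 i)).app _) := by rw [h]; infer_instance
    exact IsIso.of_isIso_comp_right (adjE.unit.app a) ((σ J (𝟙 i)).app _)
  have : IsIso adjE.unit := NatIso.isIso_of_isIso_app _
  exact ⟨adjE.fullyFaithfulLOfIsIsoUnit.full, adjE.fullyFaithfulLOfIsIsoUnit.faithful⟩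

end Groth.Agent.FibSiteLib
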