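import Groth.Agent.FibSiteLib.Lan
import Mathlib

/-!
# Covering-flat functors and left exactness of the inverse image of sheaves of sets
-/

set_option autoImplicit false
universe u

open CategoryTheory CategoryTheory.Limits Opposite

namespace Groth.Agent.FibSiteLib

variable {C D : Type u} [SmallCategory C] [SmallCategory D]

section Loc

variable (K : GrothendieckTopology D)

/-- The predicate `A` holds on a covering sieve of `d`. -/
def Loc (d : D) (A : ∀ ⦃d' : D⦄, (d' ⟶ d) → Prop) : Prop :=
  ∃ E ∈ K d, ∀ ⦃d' : D⦄ (v : d' ⟶ d), E v → A v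

variable {K}

lemma Loc.mono {d : D} {A B : ∀ ⦃d' : D⦄, (d' ⟶ d) → Prop} (h : Loc K d A)
    (hAB : ∀ ⦃d' : D⦄ (v : d' ⟶ d), A v → B v) : Loc K d B :=
  let ⟨E, hE, hA⟩ := h
  ⟨E, hE, fun _ v hv => hAB v (hA v hv)⟩

lemma Loc.bind {d : D} {A B : ∀ ⦃d' : D⦄, (d' ⟶ d) → Prop} (h : Loc K d A)
    (hAB : ∀ ⦃d' : D⦄ (v : d' ⟶ d), A v → Loc K d' fun _ w => B (w ≫ v)) : Loc K d B := by
  obtain ⟨E, hE, hA⟩ := h
  choose E' hE' hB using fun (d' : D) (v : d' ⟶ d) (hv : E v) => hAB v (hA v hv)
  refine ⟨Sieve.bind E.arrows (fun d' v hv => E' d' v hv), K.bind_covering hE fun d' v hv => hE' d' v hv, ?_⟩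
  rintro d'' w ⟨d', w', v, hv, hw', rfl⟩
  exact hB d' v hv w' hw'

lemma loc_of_forall {d : D} {A : ∀ ⦃d' : D⦄, (d' ⟶ d) → Prop} (h : ∀ ⦃d' : D⦄ (v : d' ⟶ d), A v) :
    Loc K d A := ⟨⊤, K.top_mem d, fun _ v _ => h v⟩

end Loc

variable (G : C ⥤ D) (K : GrothendieckTopology D)

lemma subsingleton_terminal {E : Type u} [SmallCategory E] (X : Eᵒᵖ)
    (x y : (⊤_ (Eᵒᵖ ⥤ Type u)).obj X) : x = y :=
  (Types.isTerminalEquivUnique _ (IsTerminal.isTerminalObj ((evaluation Eᵒᵖ (Type u)).obj X) _
    terminalIsTerminal)).instSubsingleton.elim x y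

/-- The element of the terminal presheaf. -/
noncomputable def point {E : Type u} [SmallCategory E] (X : Eᵒᵖ) : (⊤_ (Eᵒᵖ ⥤ Type u)).obj X :=
  (Types.isTerminalEquivUnique _ (IsTerminal.isTerminalObj ((evaluation Eᵒᵖ (Type u)).obj X) _
    terminalIsTerminal)).default

/-- The conditions on a functor which make the inverse image of sheaves of sets left exact. -/
structure CovFlat : Prop where
  cover : ∀ d : D, Loc K d fun d' _ => ∃ c, Nonempty (d' ⟶ G.obj c)
  two : ∀ ⦃d : D⦄ ⦃c₁ c₂ : C⦄ (f₁ : d ⟶ G.obj c₁) (f₂ : d ⟶ G.obj c₂),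
    Loc K d fun d' v => ∃ (c : C) (h₁ : c ⟶ c₁) (h₂ : c ⟶ c₂) (g : d' ⟶ G.obj c),
      g ≫ G.map h₁ = v ≫ f₁ ∧ g ≫ G.map h₂ = v ≫ f₂
  equ : ∀ ⦃d : D⦄ ⦃c c' : C⦄ (a b : c ⟶ c') (f : d ⟶ G.obj c), f ≫ G.map a = f ≫ G.map b →
    Loc K d fun d' v => ∃ (c'' : C) (e : c'' ⟶ c) (g : d' ⟶ G.obj c''),
      e ≫ a = e ≫ b ∧ g ≫ G.map e = v ≫ f

variable {G K}

namespace CovFlat

variable (hG : CovFlat G K)
include hG

lemma cone ⦃d : D⦄ ⦃c₁ c₂ c' : C⦄ (f₁ : d ⟶ G.obj c₁) (f₂ : d ⟶ G.obj c₂) (k₁ : c₁ ⟶ c')
    (k₂ : c₂ ⟶ c') (h : f₁ ≫ G.map k₁ = f₂ ≫ G.map k₂) :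
    Loc K d fun d' v => ∃ (c : C) (m₁ : c ⟶ c₁) (m₂ : c ⟶ c₂) (g : d' ⟶ G.obj c),
      g ≫ G.map m₁ = v ≫ f₁ ∧ g ≫ G.map m₂ = v ≫ f₂ ∧ m₁ ≫ k₁ = m₂ ≫ k₂ := by
  refine (hG.two f₁ f₂).bind ?_
  rintro d' v ⟨c, h₁, h₂, g, e₁, e₂⟩
  refine (hG.equ (h₁ ≫ k₁) (h₂ ≫ k₂) g (by
    simp only [Functor.map_comp, reassoc_of% e₁, reassoc_of% e₂, h])).mono ?_
  rintro d'' w ⟨c'', e, g', he, hg'⟩
  refine ⟨c'', e ≫ h₁, e ≫ h₂, g', ?_, ?_, by simpa only [Category.assoc] using he⟩
  · simp only [Functor.map_comp, reassoc_of% hg', e₁, Category.assoc]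
  · simp only [Functor.map_comp, reassoc_of% hg', e₂, Category.assoc]

/-- Two representatives of elements of the left Kan extension are locally equal. -/
def _root_.Groth.Agent.FibSiteLib.LocEq (P : Cᵒᵖ ⥤ Type u) {d : D}
    (x y : Σ c : C, (d ⟶ G.obj c) × P.obj (op c)) : Prop :=
  Loc K d fun d' v => ∃ (c : C) (g : d' ⟶ G.obj c) (h : c ⟶ x.1) (h' : c ⟶ y.1),
    g ≫ G.map h = v ≫ x.2.1 ∧ g ≫ G.map h' = v ≫ y.2.1 ∧ P.map h.op x.2.2 = P.map h'.op y.2.2

lemma locEq_equivalence (P : Cᵒᵖ ⥤ Type u) (d : D) :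
    Equivalence (LocEq (G := G) (K := K) P (d := d)) where
  refl x := loc_of_forall fun d' v => ⟨x.1, v ≫ x.2.1, 𝟙 _, 𝟙 _, by simp, by simp, rfl⟩
  symm h := h.mono fun d' v ⟨c, g, k, k', e₁, e₂, e₃⟩ => ⟨c, g, k', k, e₂, e₁, e₃.symm⟩
  trans {x y z} hxy hyz := by
    refine hxy.bind ?_
    rintro d' v ⟨c₁, g₁, h, h', e₁, e₂, e₃⟩
    obtain ⟨E, hE, hE'⟩ := hyz
    refine Loc.bind ⟨E.pullback v, K.pullback_stable v hE, fun d'' w hw => hE' (w ≫ v) hw⟩ ?_
    rintro d'' w ⟨c₂, g₂, k, k', e₄, e₅, e₆⟩
    refine (hG.cone (w ≫ g₁) g₂ h' k (by simp only [Category.assoc, e₂, e₄])).mono ?_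
    rintro d''' w' ⟨c, m₁, m₂, g, e₇, e₈, e₉⟩
    refine ⟨c, g, m₁ ≫ h, m₂ ≫ k', ?_, ?_, ?_⟩
    · simp only [Functor.map_comp, reassoc_of% e₇, e₁, Category.assoc]
    · simp only [Functor.map_comp, reassoc_of% e₈, e₅, Category.assoc]
    · simp only [op_comp, Functor.map_comp_apply, e₃, ← e₆]
      simp only [← Functor.map_comp_apply, ← op_comp, e₉]

/-- Equal elements of the left Kan extension are locally equal. -/
lemma locEq_of_lanMk_eq {P : Cᵒᵖ ⥤ Type u} {d : D} {c c' : C} {f : d ⟶ G.obj c}
    {f' : d ⟶ G.obj c'} {p : P.obj (op c)} {p' : P.obj (op c')}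
    (h : lanMk G f p = lanMk G f' p') : LocEq (G := G) (K := K) P ⟨c, f, p⟩ ⟨c', f', p'⟩ := by
  let S : Setoid (Σ c : C, (d ⟶ G.obj c) × P.obj (op c)) := ⟨_, hG.locEq_equivalence P d⟩
  obtain ⟨ψ, hψ⟩ := exists_lanDesc G (P := P) (d := d) (T := Quotient S)
    (fun c g p => Quotient.mk S ⟨c, g, p⟩) fun c c' g h p => Quotient.sound
      (loc_of_forall fun d' v => ⟨c', v ≫ g, h, 𝟙 _, by simp, by simp, by simp⟩)
  exact Quotient.exact ((hψ c f p).symm.trans ((congrArg ψ h).trans (hψ c' f' p')))

lemma isLocallyBijective_pullbackComparison {A B S : Cᵒᵖ ⥤ Type u} (s : A ⟶ S) (t : B ⟶ S) :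
    K.W (pullbackComparison (lanP G) s t) := by
  rw [GrothendieckTopology.W_iff_isLocallyBijective]
  let H (c : C) := (IsPullback.of_hasPullback s t).map ((evaluation Cᵒᵖ (Type u)).obj (op c))
  let H' (d : D) := (IsPullback.of_hasPullback ((lanP G).map s) ((lanP G).map t)).map
    ((evaluation Dᵒᵖ (Type u)).obj (op d))
  have hfst := pullbackComparison_comp_fst (lanP G) s t
  have hsnd := pullbackComparison_comp_snd (lanP G) s t
  refine ⟨⟨fun {d} e e' he => ?_⟩, ⟨fun {d} z => ?_⟩⟩
  · obtain ⟨c, f, r, rfl⟩ := exists_lanMk G (d := d.unop) e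
    obtain ⟨c', f', r', rfl⟩ := exists_lanMk G (d := d.unop) e'
    have h₁ := congrArg ((pullback.fst ((lanP G).map s) ((lanP G).map t)).app d) he
    have h₂ := congrArg ((pullback.snd ((lanP G).map s) ((lanP G).map t)).app d) he
    simp only [← ConcreteCategory.comp_apply, ← NatTrans.comp_app, hfst] at h₁
    simp only [← ConcreteCategory.comp_apply, ← NatTrans.comp_app, hsnd] at h₂
    rw [lan_map_lanMk, lan_map_lanMk] at h₁ h₂
    have L₂ := hG.locEq_of_lanMk_eq h₂
    obtain ⟨E, hE, hE'⟩ : Loc K d.unop fun d' v =>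
        ((lanP G).obj (pullback s t)).map v.op (lanMk G f r) =
          ((lanP G).obj (pullback s t)).map v.op (lanMk G f' r') := by
      refine (hG.locEq_of_lanMk_eq h₁).bind ?_
      rintro d' v ⟨c₁, g₁, h, h', e₁, e₂, e₃⟩
      obtain ⟨E, hE, hE'⟩ := L₂
      refine Loc.bind ⟨E.pullback v, K.pullback_stable v hE, fun d'' w hw => hE' (w ≫ v) hw⟩ ?_
      rintro d'' w ⟨c₂, g₂, k, k', e₄, e₅, e₆⟩
      refine (hG.cone (w ≫ g₁) g₂ h k (by simp only [Category.assoc, e₁, e₄])).bind ?_
      rintro d₃ w' ⟨c₃, m₁, m₂, g₃, e₇, e₈, e₉⟩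
      refine (hG.equ (m₁ ≫ h') (m₂ ≫ k') g₃ (by
        simp only [Functor.map_comp, reassoc_of% e₇, reassoc_of% e₈, e₂, e₅,
          Category.assoc])).mono ?_
      rintro d₄ w'' ⟨c₄, e, g, he, hg⟩
      have key : (pullback s t).map (e ≫ m₁ ≫ h).op r = (pullback s t).map (e ≫ m₁ ≫ h').op r' := by
        apply Types.ext_of_isPullback (H c₄)
        · show (pullback.fst s t).app _ _ = (pullback.fst s t).app _ _
          rw [NatTrans.naturality_apply, NatTrans.naturality_apply]
          simp only [op_comp, Functor.map_comp_apply]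
          exact congrArg _ (congrArg _ e₃)
        · show (pullback.snd s t).app _ _ = (pullback.snd s t).app _ _
          rw [NatTrans.naturality_apply, NatTrans.naturality_apply, e₉, he]
          simp only [op_comp, Functor.map_comp_apply]
          exact congrArg _ (congrArg _ e₆)
      rw [map_lanMk, map_lanMk]
      calc lanMk G ((((w'' ≫ w') ≫ w) ≫ v) ≫ f) r
          = lanMk G (g ≫ G.map (e ≫ m₁ ≫ h)) r := by
            simp only [Functor.map_comp, reassoc_of% hg, reassoc_of% e₇, e₁, Category.assoc]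
        _ = lanMk G (g ≫ G.map (e ≫ m₁ ≫ h')) r' := by rw [lanMk_comp_map, key, ← lanMk_comp_map]
        _ = lanMk G ((((w'' ≫ w') ≫ w) ≫ v) ≫ f') r' := by
            simp only [Functor.map_comp, reassoc_of% hg, reassoc_of% e₇, e₂, Category.assoc]
    exact K.superset_covering (fun d' v hv => hE' v hv) hE
  · obtain ⟨c, f, p, hp⟩ := exists_lanMk G
      ((pullback.fst ((lanP G).map s) ((lanP G).map t)).app (op d) z)
    obtain ⟨c', f', q, hq⟩ := exists_lanMk G
      ((pullback.snd ((lanP G).map s) ((lanP G).map t)).app (op d) z)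
    have h0 := ConcreteCategory.congr_hom
      (NatTrans.congr_app (pullback.condition (f := (lanP G).map s) (g := (lanP G).map t)) (op d)) z
    simp only [NatTrans.comp_app, ConcreteCategory.comp_apply, ← hp, ← hq, lan_map_lanMk] at h0
    obtain ⟨E, hE, hE'⟩ : Loc K d fun d' v => ∃ y, (pullbackComparison (lanP G) s t).app (op d') y =
        (pullback ((lanP G).map s) ((lanP G).map t)).map v.op z := by
      refine (hG.locEq_of_lanMk_eq h0).mono ?_
      rintro d' v ⟨c'', g, h, h', e₁, e₂, e₃⟩
      obtain ⟨r, hr₁, hr₂⟩ := Types.exists_of_isPullback (H c'') (A.map h.op p) (B.map h'.op q) (by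
        show s.app _ (A.map h.op p) = t.app _ (B.map h'.op q)
        rw [NatTrans.naturality_apply, NatTrans.naturality_apply]; exact e₃)
      refine ⟨lanMk G g r, Types.ext_of_isPullback (H' d') ?_ ?_⟩
      · show (pullback.fst ((lanP G).map s) ((lanP G).map t)).app _ _ =
          (pullback.fst ((lanP G).map s) ((lanP G).map t)).app _ _
        rw [← ConcreteCategory.comp_apply, ← NatTrans.comp_app, hfst, lan_map_lanMk,
          NatTrans.naturality_apply, ← hp, map_lanMk]
        exact (congrArg (lanMk G g) hr₁).trans ((lanMk_comp_map G g h p).symm.trans (by rw [e₁]))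
      · show (pullback.snd ((lanP G).map s) ((lanP G).map t)).app _ _ =
          (pullback.snd ((lanP G).map s) ((lanP G).map t)).app _ _
        rw [← ConcreteCategory.comp_apply, ← NatTrans.comp_app, hsnd, lan_map_lanMk,
          NatTrans.naturality_apply, ← hq, map_lanMk]
        exact (congrArg (lanMk G g) hr₂).trans ((lanMk_comp_map G g h' q).symm.trans (by rw [e₂]))
    exact K.superset_covering (fun d' v hv => hE' v hv) hE

lemma isLocallyBijective_terminalComparison : K.W (terminalComparison (lanP G)) := by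
  rw [GrothendieckTopology.W_iff_isLocallyBijective]
  refine ⟨⟨fun {d} e e' _ => ?_⟩, ⟨fun {d} z => ?_⟩⟩
  · obtain ⟨c, f, r, rfl⟩ := exists_lanMk G (d := d.unop) e
    obtain ⟨c', f', r', rfl⟩ := exists_lanMk G (d := d.unop) e'
    obtain ⟨E, hE, hE'⟩ : Loc K d.unop fun d' v => lanMk G (v ≫ f) r = lanMk G (v ≫ f') r' :=
      (hG.two f f').mono fun d' v ⟨c₁, h, h', g, e₁, e₂⟩ => by
        rw [← e₁, ← e₂, lanMk_comp_map, lanMk_comp_map]
        exact congrArg _ (subsingleton_terminal (op c₁) _ _)
    refine K.superset_covering (fun d' v hv => ?_) hE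
    show _ = _
    rw [map_lanMk, map_lanMk]
    exact hE' v hv
  · obtain ⟨E, hE, hE'⟩ := hG.cover d
    refine K.superset_covering (fun d' v hv => ?_) hE
    obtain ⟨c, ⟨g⟩⟩ := hE' v hv
    exact ⟨lanMk G g (point (op c)), subsingleton_terminal (op d') _ _⟩

end CovFlat

variable (G K)

/-- The left Kan extension followed by sheafification. -/
noncomputable abbrev lanSheafify : (Cᵒᵖ ⥤ Type u) ⥤ Sheaf K (Type u) :=
  lanP G ⋙ presheafToSheaf K (Type u)

lemma preservesFiniteLimits_lanSheafify (hG : CovFlat G K) :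
    PreservesFiniteLimits (lanSheafify G K) := by
  have : PreservesLimit (Functor.empty.{0} (Cᵒᵖ ⥤ Type u)) (lanSheafify G K) := by
    have : IsIso ((presheafToSheaf K (Type u)).map (terminalComparison (lanP G))) :=
      (K.W_iff _).1 hG.isLocallyBijective_terminalComparison
    have : IsIso (terminalComparison (lanSheafify G K)) := by
      rw [show terminalComparison (lanSheafify G K) =
        (presheafToSheaf K (Type u)).map (terminalComparison (lanP G)) ≫
          terminalComparison (presheafToSheaf K (Type u)) from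
        (terminalIsTerminal (C := Sheaf K (Type u))).hom_ext _ _]
      infer_instance
    exact PreservesTerminal.of_iso_comparison _
  have : PreservesLimitsOfShape (Discrete PEmpty.{1}) (lanSheafify G K) :=
    ⟨fun {D} => preservesLimit_of_iso_diagram _ (Functor.uniqueFromEmpty D).symm⟩
  have : PreservesLimitsOfShape WalkingCospan (lanSheafify G K) := ⟨fun {D} => by
    have : IsIso ((presheafToSheaf K (Type u)).map
        (pullbackComparison (lanP G) (D.map WalkingCospan.Hom.inl) (D.map WalkingCospan.Hom.inr))) :=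
      (K.W_iff _).1 (hG.isLocallyBijective_pullbackComparison _ _)
    have : IsIso (pullbackComparison (lanSheafify G K) (D.map WalkingCospan.Hom.inl)
        (D.map WalkingCospan.Hom.inr)) := by
      rw [pullbackComparison_comp]
      infer_instance
    have : PreservesLimit (cospan (D.map WalkingCospan.Hom.inl) (D.map WalkingCospan.Hom.inr))
      (lanSheafify G K) := PreservesPullback.of_iso_comparison (lanSheafify G K)
    exact preservesLimit_of_iso_diagram _ (diagramIsoCospan D).symm⟩
  exact preservesFiniteLimits_of_preservesTerminal_and_pullbacks _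

variable (J : GrothendieckTopology C) [G.IsContinuous J K]
  [(G.sheafPushforwardContinuous (Type u) J K).IsRightAdjoint]

/-- `lanSheafify` factors through sheafification. -/
noncomputable def sheafifyCompSheafPullbackIso :
    presheafToSheaf J (Type u) ⋙ G.sheafPullback (Type u) J K ≅ lanSheafify G K :=
  Adjunction.leftAdjointUniq
    (((sheafificationAdjunction J (Type u)).comp (G.sheafAdjunctionContinuous (Type u) J K)).ofNatIsoRight
      (G.sheafPushforwardContinuousCompSheafToPresheafIso (Type u) J K))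
    ((G.op.lanAdjunction (Type u)).comp (sheafificationAdjunction K (Type u)))

/-- A covering-flat functor has left exact inverse image. -/
theorem preservesFiniteLimits_sheafPullback_of_covFlat (hG : CovFlat G K) :
    PreservesFiniteLimits (G.sheafPullback (Type u) J K) := by
  have := preservesFiniteLimits_lanSheafify G K hG
  have : PreservesFiniteLimits (sheafToPresheaf J (Type u) ⋙ lanSheafify G K) :=
    comp_preservesFiniteLimits _ _
  have : PreservesFiniteLimits
      (Functor.sheafPullbackConstruction.sheafPullback G (Type u) J K) := this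
  exact preservesFiniteLimits_of_natIso
    (Adjunction.leftAdjointUniq (Functor.sheafPullbackConstruction.sheafAdjunctionContinuous G (Type u) J K)
      (G.sheafAdjunctionContinuous (Type u) J K))

section Converse

variable [h : PreservesFiniteLimits (G.sheafPullback (Type u) J K)]

include J in
lemma preservesFiniteLimits_lanSheafify_of_sheafPullback : PreservesFiniteLimits (lanSheafify G K) := by
  have : PreservesFiniteLimits (presheafToSheaf J (Type u) ⋙ G.sheafPullback (Type u) J K) :=
    comp_preservesFiniteLimits _ _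
  exact preservesFiniteLimits_of_natIso (sheafifyCompSheafPullbackIso G K J)

include J in
lemma W_pullbackComparison {A B S : Cᵒᵖ ⥤ Type u} (s : A ⟶ S) (t : B ⟶ S) :
    K.W (pullbackComparison (lanP G) s t) := by
  have := preservesFiniteLimits_lanSheafify_of_sheafPullback G K J
  have h1 : IsIso (pullbackComparison (lanSheafify G K) s t) := inferInstance
  rw [pullbackComparison_comp] at h1
  exact (K.W_iff _).2 (IsIso.of_isIso_comp_right ((presheafToSheaf K (Type u)).map
    (pullbackComparison (lanP G) s t)) (pullbackComparison (presheafToSheaf K (Type u))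
      ((lanP G).map s) ((lanP G).map t)))

include J in
lemma W_terminalComparison : K.W (terminalComparison (lanP G)) := by
  have := preservesFiniteLimits_lanSheafify_of_sheafPullback G K J
  have h1 : IsIso (terminalComparison (lanSheafify G K)) := inferInstance
  rw [show terminalComparison (lanSheafify G K) =
    (presheafToSheaf K (Type u)).map (terminalComparison (lanP G)) ≫
      terminalComparison (presheafToSheaf K (Type u)) from
    (terminalIsTerminal (C := Sheaf K (Type u))).hom_ext _ _] at h1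
  exact (K.W_iff _).2 (IsIso.of_isIso_comp_right ((presheafToSheaf K (Type u)).map
    (terminalComparison (lanP G))) (terminalComparison (presheafToSheaf K (Type u))))

include J in
/-- Elements with equal images lift locally to the fibre product. -/
lemma loc_exists_lift {A B S : Cᵒᵖ ⥤ Type u} (s : A ⟶ S) (t : B ⟶ S) {d : D}
    (x : ((lanP G).obj A).obj (op d)) (y : ((lanP G).obj B).obj (op d))
    (hxy : ((lanP G).map s).app _ x = ((lanP G).map t).app _ y) :
    Loc K d fun d' v => ∃ z, ((lanP G).map (pullback.fst s t)).app (op d') z =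
        ((lanP G).obj A).map v.op x ∧
      ((lanP G).map (pullback.snd s t)).app (op d') z = ((lanP G).obj B).map v.op y := by
  have hW := (W_pullbackComparison G K J s t).isLocallySurjective
  obtain ⟨w, hw₁, hw₂⟩ := Types.exists_of_isPullback
    ((IsPullback.of_hasPullback ((lanP G).map s) ((lanP G).map t)).map
      ((evaluation Dᵒᵖ (Type u)).obj (op d))) x y hxy
  refine ⟨_, Presheaf.imageSieve_mem K (pullbackComparison (lanP G) s t) (U := op d) w, ?_⟩
  rintro d' v ⟨z, hz⟩
  refine ⟨z, ?_, ?_⟩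
  · rw [← pullbackComparison_comp_fst (lanP G) s t, NatTrans.comp_app, ConcreteCategory.comp_apply,
      hz, NatTrans.naturality_apply]
    exact congrArg _ hw₁
  · rw [← pullbackComparison_comp_snd (lanP G) s t, NatTrans.comp_app, ConcreteCategory.comp_apply,
      hz, NatTrans.naturality_apply]
    exact congrArg _ hw₂

include J in
lemma loc_eq_of_fst_snd {A B S : Cᵒᵖ ⥤ Type u} (s : A ⟶ S) (t : B ⟶ S) {d : D}
    {x y : ((lanP G).obj (pullback s t)).obj (op d)}
    (h₁ : ((lanP G).map (pullback.fst s t)).app _ x = ((lanP G).map (pullback.fst s t)).app _ y)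
    (h₂ : ((lanP G).map (pullback.snd s t)).app _ x = ((lanP G).map (pullback.snd s t)).app _ y) :
    Loc K d fun _ v => ((lanP G).obj (pullback s t)).map v.op x =
      ((lanP G).obj (pullback s t)).map v.op y := by
  have hW := (W_pullbackComparison G K J s t).isLocallyInjective
  refine ⟨Presheaf.equalizerSieve (F := (lanP G).obj (pullback s t)) x y,
    Presheaf.equalizerSieve_mem K (pullbackComparison (lanP G) s t) x y ?_, fun _ _ hv => hv⟩
  apply Types.ext_of_isPullback ((IsPullback.of_hasPullback ((lanP G).map s) ((lanP G).map t)).map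
    ((evaluation Dᵒᵖ (Type u)).obj (op d)))
  · show (pullback.fst ((lanP G).map s) ((lanP G).map t)).app _ _ =
          (pullback.fst ((lanP G).map s) ((lanP G).map t)).app _ _
    rw [← ConcreteCategory.comp_apply, ← ConcreteCategory.comp_apply, ← NatTrans.comp_app,
      pullbackComparison_comp_fst]
    exact h₁
  · show (pullback.snd ((lanP G).map s) ((lanP G).map t)).app _ _ =
          (pullback.snd ((lanP G).map s) ((lanP G).map t)).app _ _
    rw [← ConcreteCategory.comp_apply, ← ConcreteCategory.comp_apply, ← NatTrans.comp_app,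
      pullbackComparison_comp_snd]
    exact h₂

/-- Representable elements read as morphisms. -/
lemma exists_read (c : C) (d : D) :
    ∃ ψ : ((lanP G).obj (yoneda.obj c)).obj (op d) → (d ⟶ G.obj c),
      ∀ (c' : C) (g : d ⟶ G.obj c') (k : c' ⟶ c), ψ (lanMk G g k) = g ≫ G.map k :=
  exists_lanDesc G (P := yoneda.obj c) (d := d) (fun _ g k => g ≫ G.map k) fun c₁ c₂ g h k => by
    show (g ≫ G.map h) ≫ G.map k = g ≫ G.map (h ≫ k)
    rw [Functor.map_comp, Category.assoc]

include J in
/-- A functor with left exact inverse image is covering-flat. -/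
theorem covFlat_of_preservesFiniteLimits : CovFlat G K where
  cover d := by
    have hW := (W_terminalComparison G K J).isLocallySurjective
    refine ⟨_, Presheaf.imageSieve_mem K (terminalComparison (lanP G)) (U := op d) (point _), ?_⟩
    rintro d' v ⟨z, -⟩
    obtain ⟨c, g, -, -⟩ := exists_lanMk G z
    exact ⟨c, ⟨g⟩⟩
  two d c₁ c₂ f₁ f₂ := by
    let s := terminal.from (yoneda.obj c₁)
    let t := terminal.from (yoneda.obj c₂)
    have hW := (W_terminalComparison G K J).isLocallyInjective
    have h0 : Loc K d fun _ v => ((lanP G).map s).app _ (lanMk G (v ≫ f₁) (𝟙 c₁)) =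
        ((lanP G).map t).app _ (lanMk G (v ≫ f₂) (𝟙 c₂)) :=
      ⟨_, Presheaf.equalizerSieve_mem K (terminalComparison (lanP G))
        (((lanP G).map s).app (op d) (lanMk G f₁ (𝟙 c₁)))
        (((lanP G).map t).app (op d) (lanMk G f₂ (𝟙 c₂))) (subsingleton_terminal _ _ _),
        fun d' v hv => by
          show ((lanP G).map s).app (op d') _ = ((lanP G).map t).app (op d') _
          rw [← map_lanMk, ← map_lanMk, NatTrans.naturality_apply, NatTrans.naturality_apply]
          exact hv⟩
    refine h0.bind fun d' v hv => (loc_exists_lift G K J s t _ _ hv).mono ?_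
    rintro d'' w ⟨z, hz₁, hz₂⟩
    obtain ⟨c, g, r, rfl⟩ := exists_lanMk G z
    rw [lan_map_lanMk, map_lanMk] at hz₁ hz₂
    obtain ⟨ψ₁, hψ₁⟩ := exists_read G c₁ d''
    obtain ⟨ψ₂, hψ₂⟩ := exists_read G c₂ d''
    refine ⟨c, (pullback.fst s t).app _ r, (pullback.snd s t).app _ r, g, ?_, ?_⟩
    · rw [← hψ₁, hz₁, hψ₁]; simp
    · rw [← hψ₂, hz₂, hψ₂]; simp
  equ d c c' a b f hab := by
    let s := terminal.from (yoneda.obj c')
    let t := terminal.from (yoneda.obj c)
    let la : yoneda.obj c ⟶ pullback s t :=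
      pullback.lift (yoneda.map a) (𝟙 _) (terminalIsTerminal.hom_ext _ _)
    let lb : yoneda.obj c ⟶ pullback s t :=
      pullback.lift (yoneda.map b) (𝟙 _) (terminalIsTerminal.hom_ext _ _)
    have hW := loc_eq_of_fst_snd G K J s t
      (x := ((lanP G).map la).app (op d) (lanMk G f (𝟙 c)))
      (y := ((lanP G).map lb).app (op d) (lanMk G f (𝟙 c))) (by
        simp only [← ConcreteCategory.comp_apply, ← NatTrans.comp_app, ← Functor.map_comp, la, lb,
          pullback.lift_fst, lan_map_lanMk]
        have e : ∀ k : c ⟶ c', lanMk G f ((yoneda.map k).app (op c) (𝟙 c)) =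
            lanMk G (P := yoneda.obj c') (f ≫ G.map k) (𝟙 c') := fun k => by
          rw [lanMk_comp_map]
          exact congrArg _ ((Category.id_comp k).trans (Category.comp_id k).symm)
        rw [e, e, hab]) (by
        simp only [← ConcreteCategory.comp_apply, ← NatTrans.comp_app, ← Functor.map_comp, la, lb,
          pullback.lift_snd])
    refine hW.bind fun d' v hv => ?_
    simp only [← NatTrans.naturality_apply, map_lanMk] at hv
    refine (loc_exists_lift G K J la lb _ _ hv).mono ?_
    rintro d'' w ⟨z, hz₁, hz₂⟩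
    obtain ⟨c'', g, r, rfl⟩ := exists_lanMk G z
    rw [lan_map_lanMk, map_lanMk] at hz₁ hz₂
    obtain ⟨ψ, hψ⟩ := exists_read G c d''
    have hc := ConcreteCategory.congr_hom
      (NatTrans.congr_app (pullback.condition (f := la) (g := lb)) (op c'')) r
    have h1 := congrArg ((pullback.fst s t).app (op c'')) hc
    have h2 := congrArg ((pullback.snd s t).app (op c'')) hc
    simp only [NatTrans.comp_app, ConcreteCategory.comp_apply] at h1 h2
    simp only [← ConcreteCategory.comp_apply, ← NatTrans.comp_app, la, lb, Category.assoc,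
      pullback.lift_fst, pullback.lift_snd, Category.comp_id] at h1 h2
    refine ⟨c'', (pullback.fst la lb).app _ r, g, ?_, ?_⟩
    · exact h1.trans (congrArg (fun k : c'' ⟶ c => k ≫ b) h2.symm)
    · rw [← hψ, hz₁, hψ]; simp

end Converse

end Groth.Agent.FibSiteLib
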