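import Mathlib

/-!
# Elements of left and right Kan extensions of presheaves of sets
-/

set_option autoImplicit false
universe u

open CategoryTheory CategoryTheory.Limits Opposite

namespace Groth.Agent.FibSiteLib

variable {C D : Type u} [SmallCategory C] [SmallCategory D] (G : C ⥤ D)

/-- The left Kan extension of presheaves of sets. -/
noncomputable abbrev lanP : (Cᵒᵖ ⥤ Type u) ⥤ (Dᵒᵖ ⥤ Type u) := G.op.lan

/-- The element of the left Kan extension given by `g : d ⟶ G c` and `p ∈ P c`. -/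
noncomputable def lanMk {P : Cᵒᵖ ⥤ Type u} {d : D} {c : C} (g : d ⟶ G.obj c) (p : P.obj (op c)) :
    ((lanP G).obj P).obj (op d) :=
  ((lanP G).obj P).map g.op ((G.op.lanUnit.app P).app (op c) p)

lemma map_lanMk {P : Cᵒᵖ ⥤ Type u} {d d' : D} {c : C} (r : d' ⟶ d) (g : d ⟶ G.obj c)
    (p : P.obj (op c)) : ((lanP G).obj P).map r.op (lanMk G g p) = lanMk G (r ≫ g) p := by
  simp only [lanMk, op_comp, CategoryTheory.Functor.map_comp, ConcreteCategory.comp_apply]

lemma lanMk_comp_map {P : Cᵒᵖ ⥤ Type u} {d : D} {c c' : C} (g : d ⟶ G.obj c') (h : c' ⟶ c)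
    (p : P.obj (op c)) : lanMk G (g ≫ G.map h) p = lanMk G g (P.map h.op p) := by
  simp only [lanMk, op_comp, CategoryTheory.Functor.map_comp, ConcreteCategory.comp_apply]
  congr 1
  exact ((G.op.lanUnit.app P).naturality_apply h.op p).symm

lemma lan_map_lanMk {P Q : Cᵒᵖ ⥤ Type u} (u : P ⟶ Q) {d : D} {c : C} (g : d ⟶ G.obj c)
    (p : P.obj (op c)) :
    ((lanP G).map u).app (op d) (lanMk G g p) = lanMk G g (u.app (op c) p) := by
  have h := ConcreteCategory.congr_hom (NatTrans.congr_app (G.op.lanUnit.naturality u) (op c)) p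
  simp only [lanMk]
  rw [NatTrans.naturality_apply]
  congr 1
  exact h.symm

lemma exists_lanMk {P : Cᵒᵖ ⥤ Type u} {d : D} (x : ((lanP G).obj P).obj (op d)) :
    ∃ (c : C) (g : d ⟶ G.obj c) (p : P.obj (op c)), lanMk G g p = x := by
  obtain ⟨j, p, hj⟩ := Types.jointly_surjective _
    (Functor.isPointwiseLeftKanExtensionLeftKanExtensionUnit G.op P (op d)) x
  exact ⟨j.left.unop, j.hom.unop, p, hj⟩

lemma exists_lanDesc {P : Cᵒᵖ ⥤ Type u} {d : D} {T : Type u}
    (Φ : ∀ c : C, (d ⟶ G.obj c) → P.obj (op c) → T)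
    (hΦ : ∀ (c c' : C) (g : d ⟶ G.obj c') (h : c' ⟶ c) (p : P.obj (op c)),
      Φ c (g ≫ G.map h) p = Φ c' g (P.map h.op p)) :
    ∃ ψ : ((lanP G).obj P).obj (op d) → T, ∀ c g p, ψ (lanMk G g p) = Φ c g p := by
  let s : Cocone (CostructuredArrow.proj G.op (op d) ⋙ P) :=
    { pt := T
      ι :=
        { app := fun j => TypeCat.ofHom fun p => Φ j.left.unop j.hom.unop p
          naturality := fun j j' φ => by
            ext p
            have hw : j'.hom.unop ≫ G.map φ.left.unop = j.hom.unop := by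
              rw [← CostructuredArrow.w φ]; rfl
            show Φ j'.left.unop j'.hom.unop (P.map φ.left p) = Φ j.left.unop j.hom.unop p
            rw [← hw]
            exact (hΦ _ _ _ φ.left.unop p).symm } }
  let hc := Functor.isPointwiseLeftKanExtensionLeftKanExtensionUnit G.op P (op d)
  exact ⟨fun x => hc.desc s x, fun c g p =>
    ConcreteCategory.congr_hom (hc.fac s (CostructuredArrow.mk g.op)) p⟩

end Groth.Agent.FibSiteLib
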