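import Groth.Agent.FibSiteLib.Retract
import Groth.Agent.FibSiteLib.CovFlat

/-!
# Morphisms of fibred sites and the induced functor of total sites
-/

set_option autoImplicit false
universe u

open CategoryTheory CategoryTheory.Limits Opposite Bicategory
open CategoryTheory.Pseudofunctor CategoryTheory.Pseudofunctor.CoGrothendieck
open scoped CategoryTheory.Pseudofunctor.StrongTrans

namespace Groth.Agent.FibSiteLib

variable {𝒮 : Type u} [SmallCategory 𝒮] {F G : Pseudofunctor (LocallyDiscrete 𝒮ᵒᵖ) Cat.{u, u}}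
  (α : G ⟶ F)

/-- The fibre functor of a strong transformation. -/
abbrev fibFun (S : 𝒮) : G.obj ⟨op S⟩ ⥤ F.obj ⟨op S⟩ := (α.app ⟨op S⟩).toFunctor

/-- The functor of total categories. -/
abbrev totFun : ∫ᶜ G ⥤ ∫ᶜ F := Pseudofunctor.CoGrothendieck.map α

set_option backward.defeqAttrib.useBackward true in
set_option backward.isDefEq.respectTransparency false in
lemma totFun_map_ι {S : 𝒮} {V W : G.obj ⟨op S⟩} (φ : V ⟶ W) :
    (totFun α).map ((ι G S).map φ) = (ι F S).map ((fibFun α S).map φ) := by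
  ext
  · simp
  · simp [StrongTrans.naturality_id_hom_app, ← Functor.map_comp_assoc, ← Cat.Hom₂.comp_app]

/-- Compatibility of the fibre inclusions. -/
def ιCompIso (S : 𝒮) : ι G S ⋙ totFun α ≅ fibFun α S ⋙ ι F S :=
  NatIso.ofComponents (fun _ => Iso.refl _) fun φ =>
    (Category.comp_id _).trans ((totFun_map_ι α φ).trans (Category.id_comp _).symm)

set_option backward.defeqAttrib.useBackward true in
set_option backward.isDefEq.respectTransparency false in
lemma totFun_map_cart {R S : 𝒮} (f : R ⟶ S) (U : G.obj ⟨op S⟩) :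
    (totFun α).map (cart f U) =
      (ι F R).map ((α.naturality f.op.toLoc).hom.toNatTrans.app U) ≫ cart f ((fibFun α S).obj U) := by
  rw [ι_map_comp_cart]
  ext
  · simp
  · simp

/-- The image of a morphism out of a fibre. -/
abbrev tmap {S : 𝒮} {W : G.obj ⟨op S⟩} {c : ∫ᶜ G} (k : (ι G S).obj W ⟶ c) :
    (ι F S).obj ((fibFun α S).obj W) ⟶ (totFun α).obj c :=
  (totFun α).map k

lemma tmap_comp {S : 𝒮} {W : G.obj ⟨op S⟩} {c c' : ∫ᶜ G} (k : (ι G S).obj W ⟶ c) (h : c ⟶ c') :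
    tmap α k ≫ (totFun α).map h = tmap α (k ≫ h) :=
  ((totFun α).map_comp k h).symm

lemma tmap_ι {S : 𝒮} {W W' : G.obj ⟨op S⟩} (φ : W' ⟶ W) :
    tmap α ((ι G S).map φ) = (ι F S).map ((fibFun α S).map φ) :=
  totFun_map_ι α φ

lemma ι_map_comp_tmap {S : 𝒮} {W W' : G.obj ⟨op S⟩} {c : ∫ᶜ G} (φ : W' ⟶ W)
    (k : (ι G S).obj W ⟶ c) :
    (ι F S).map ((fibFun α S).map φ) ≫ tmap α k = tmap α ((ι G S).map φ ≫ k) := by
  rw [← tmap_ι]; exact tmap_comp α ((ι G S).map φ) k

lemma base_ι_map_comp_totFun_map {S : 𝒮} {V : F.obj ⟨op S⟩} {W : G.obj ⟨op S⟩} {c : ∫ᶜ G}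
    (ψ : V ⟶ (fibFun α S).obj W) (k : (ι G S).obj W ⟶ c) :
    ((ι F S).map ψ ≫ tmap α k).base = k.base :=
  Category.id_comp k.base

/-- Morphisms into the image of the total functor factor through the fibre. -/
lemma exists_factor {S : 𝒮} {V : F.obj ⟨op S⟩} {c : ∫ᶜ G}
    (g : (ι F S).obj V ⟶ (totFun α).obj c) :
    ∃ (W : G.obj ⟨op S⟩) (ψ : V ⟶ (fibFun α S).obj W) (k : (ι G S).obj W ⟶ c),
      g = (ι F S).map ψ ≫ tmap α k := by
  obtain ⟨T, U⟩ := c
  change (ι F S).obj V ⟶ (ι F T).obj ((fibFun α T).obj U) at g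
  obtain ⟨f, ψ, rfl⟩ := exists_decomp g
  let ηi := (Cat.Hom.toNatIso (α.naturality f.op.toLoc)).app U
  refine ⟨(FibSite.invImage G f).obj U, ψ ≫ ηi.inv, cart f U, ?_⟩
  have e : tmap α (cart f U) = (ι F S).map ηi.hom ≫ cart f ((fibFun α T).obj U) :=
    totFun_map_cart α f U
  have h2 : (ι F S).map (ψ ≫ ηi.inv) ≫ (ι F S).map ηi.hom = (ι F S).map ψ :=
    ((ι F S).map_comp _ _).symm.trans
      (congrArg (ι F S).map (by rw [Category.assoc, Iso.inv_hom_id]; exact Category.comp_id ψ))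
  exact ((congrArg (fun m => (ι F S).map _ ≫ m) e).trans
    ((Category.assoc _ _ _).symm.trans (congrArg (fun m => m ≫ cart f _) h2))).symm

variable {J : FibSite.Topologies F} {K : FibSite.Topologies G}
  (hF : FibSite.IsPreFibSite F J) (hG : FibSite.IsPreFibSite G K)

include hF in
lemma mem_iff_ι {S : 𝒮} {V : F.obj ⟨op S⟩} (E : Sieve ((ι F S).obj V)) :
    E ∈ FibSite.totalTopology F J ((ι F S).obj V) ↔ E.functorPullback (ι F S) ∈ J S V :=
  mem_totalTopology_iff hF E

include hF in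
lemma loc_ι {S : 𝒮} {V : F.obj ⟨op S⟩} {A : ∀ ⦃d : ∫ᶜ F⦄, (d ⟶ (ι F S).obj V) → Prop}
    (h : Loc (FibSite.totalTopology F J) ((ι F S).obj V) A) :
    Loc (J S) V fun _ w => A ((ι F S).map w) := by
  obtain ⟨E, hE, hA⟩ := h
  exact ⟨E.functorPullback (ι F S), (mem_iff_ι hF E).1 hE, fun _ w hw => hA _ hw⟩

lemma loc_total {S : 𝒮} {V : F.obj ⟨op S⟩} {A : ∀ ⦃W : F.obj ⟨op S⟩⦄, (W ⟶ V) → Prop}
    (h : Loc (J S) V A) :
    Loc (FibSite.totalTopology F J) ((ι F S).obj V) fun d v =>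
      ∃ (W : F.obj ⟨op S⟩) (w : W ⟶ V) (r : d ⟶ (ι F S).obj W), A w ∧ v = r ≫ (ι F S).map w := by
  obtain ⟨E, hE, hA⟩ := h
  refine ⟨_, FibSite.functorPushforward_mem_totalTopology hE, ?_⟩
  rintro d v ⟨W, w, r, hw, rfl⟩
  exact ⟨W, w, r, hA w hw, rfl⟩

include hF in
/-- The fibre functors of a covering-flat total functor are covering-flat. -/
theorem covFlat_fibFun (h : CovFlat (totFun α) (FibSite.totalTopology F J)) (S : 𝒮) :
    CovFlat (fibFun α S) (J S) where
  cover V := (loc_ι hF (h.cover ((ι F S).obj V))).mono fun V' _ ⟨c, ⟨g⟩⟩ => by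
    obtain ⟨W, ψ, -, -⟩ := exists_factor α g
    exact ⟨W, ⟨ψ⟩⟩
  two V U₁ U₂ f₁ f₂ := by
    refine (loc_ι hF (h.two (c₁ := (ι G S).obj U₁) (c₂ := (ι G S).obj U₂)
      ((ι F S).map f₁) ((ι F S).map f₂))).mono ?_
    rintro V' w ⟨c, h₁, h₂, g, e₁, e₂⟩
    obtain ⟨W, ψ, k, rfl⟩ := exists_factor α g
    replace e₁ : (ι F S).map ψ ≫ tmap α (k ≫ h₁) = (ι F S).map (w ≫ f₁) :=
      ((congrArg (fun m => (ι F S).map ψ ≫ m) (tmap_comp α k h₁)).symm.trans
        ((Category.assoc _ _ _).symm.trans e₁)).trans ((ι F S).map_comp w f₁).symm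
    replace e₂ : (ι F S).map ψ ≫ tmap α (k ≫ h₂) = (ι F S).map (w ≫ f₂) :=
      ((congrArg (fun m => (ι F S).map ψ ≫ m) (tmap_comp α k h₂)).symm.trans
        ((Category.assoc _ _ _).symm.trans e₂)).trans ((ι F S).map_comp w f₂).symm
    obtain ⟨φ₁, hφ₁⟩ := exists_ι_map_eq (k ≫ h₁)
      ((base_ι_map_comp_totFun_map α ψ (k ≫ h₁)).symm.trans (congrArg CoGrothendieck.Hom.base e₁))
    obtain ⟨φ₂, hφ₂⟩ := exists_ι_map_eq (k ≫ h₂)
      ((base_ι_map_comp_totFun_map α ψ (k ≫ h₂)).symm.trans (congrArg CoGrothendieck.Hom.base e₂))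
    refine ⟨W, φ₁, φ₂, ψ, ι_map_injective ?_, ι_map_injective ?_⟩
    · rw [Functor.map_comp, ← tmap_ι, ← hφ₁]; exact e₁
    · rw [Functor.map_comp, ← tmap_ι, ← hφ₂]; exact e₂
  equ V U U' a b f hab := by
    refine (loc_ι hF (h.equ ((ι G S).map a) ((ι G S).map b) ((ι F S).map f) ?_)).mono ?_
    · have := congrArg (ι F S).map hab
      rw [Functor.map_comp, Functor.map_comp, ← tmap_ι, ← tmap_ι] at this
      exact this
    · rintro V' w ⟨c, e, g, he, hg⟩
      obtain ⟨W, ψ, k, rfl⟩ := exists_factor α g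
      replace hg : (ι F S).map ψ ≫ tmap α (k ≫ e) = (ι F S).map (w ≫ f) :=
        ((congrArg (fun m => (ι F S).map ψ ≫ m) (tmap_comp α k e)).symm.trans
          ((Category.assoc _ _ _).symm.trans hg)).trans ((ι F S).map_comp w f).symm
      obtain ⟨φ, hφ⟩ := exists_ι_map_eq (k ≫ e)
        ((base_ι_map_comp_totFun_map α ψ (k ≫ e)).symm.trans (congrArg CoGrothendieck.Hom.base hg))
      refine ⟨W, φ, ψ, ι_map_injective ?_, ι_map_injective ?_⟩
      · rw [Functor.map_comp, Functor.map_comp, ← hφ, Category.assoc, Category.assoc, he]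
      · rw [Functor.map_comp, ← tmap_ι, ← hφ]; exact hg

lemma lift_eq {R : 𝒮} {V V' : F.obj ⟨op R⟩} {W W₁ : G.obj ⟨op R⟩} {c : ∫ᶜ G} {d : ∫ᶜ F}
    (r : d ⟶ (ι F R).obj V') (w : V' ⟶ V) (g : V' ⟶ (fibFun α R).obj W) (φ : W ⟶ W₁)
    (ψ : V ⟶ (fibFun α R).obj W₁) (k : (ι G R).obj W₁ ⟶ c)
    (e : g ≫ (fibFun α R).map φ = w ≫ ψ) :
    (r ≫ (ι F R).map g) ≫ tmap α ((ι G R).map φ ≫ k) =
      (r ≫ (ι F R).map w) ≫ (ι F R).map ψ ≫ tmap α k := by
  rw [← ι_map_comp_tmap α φ k, Category.assoc, ← Category.assoc ((ι F R).map g), ← Functor.map_comp,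
    e, Functor.map_comp, Category.assoc, Category.assoc]

/-- A total functor with covering-flat fibre functors is covering-flat. -/
theorem covFlat_totFun (h : ∀ S, CovFlat (fibFun α S) (J S)) :
    CovFlat (totFun α) (FibSite.totalTopology F J) where
  cover := by
    rintro ⟨R, V⟩
    refine (loc_total ((h R).cover V)).mono ?_
    rintro d v ⟨W, w, r, ⟨U, ⟨g⟩⟩, rfl⟩
    exact ⟨(ι G R).obj U, ⟨r ≫ (ι F R).map g⟩⟩
  two := by
    rintro ⟨R, V⟩ c₁ c₂ f₁ f₂
    change (ι F R).obj V ⟶ _ at f₁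
    change (ι F R).obj V ⟶ _ at f₂
    obtain ⟨W₁, ψ₁, k₁, rfl⟩ := exists_factor α f₁
    obtain ⟨W₂, ψ₂, k₂, rfl⟩ := exists_factor α f₂
    refine (loc_total ((h R).two ψ₁ ψ₂)).mono ?_
    rintro d v ⟨V', w, r, ⟨W, φ₁, φ₂, g, e₁, e₂⟩, rfl⟩
    exact ⟨(ι G R).obj W, (ι G R).map φ₁ ≫ k₁, (ι G R).map φ₂ ≫ k₂, r ≫ (ι F R).map g,
      lift_eq α r w g φ₁ ψ₁ k₁ e₁, lift_eq α r w g φ₂ ψ₂ k₂ e₂⟩
  equ := by
    rintro ⟨R, V⟩ c c' a b f hab
    change (ι F R).obj V ⟶ _ at f
    obtain ⟨W, ψ, k, rfl⟩ := exists_factor α f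
    obtain ⟨T, U⟩ := c'
    have hab' : (ι F R).map ψ ≫ tmap α (k ≫ a) = (ι F R).map ψ ≫ tmap α (k ≫ b) := by
      rw [← tmap_comp α k a, ← tmap_comp α k b]
      exact (Category.assoc _ _ _).symm.trans (hab.trans (Category.assoc _ _ _))
    obtain ⟨fa, φa, hφa⟩ := exists_decomp (Y := U) (k ≫ a)
    obtain ⟨fb, φb, hφb⟩ := exists_decomp (Y := U) (k ≫ b)
    obtain rfl : fa = fb :=
      (base_ι_map_comp_cart fa U φa).symm.trans ((congrArg CoGrothendieck.Hom.base hφa).symm.trans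
        (((base_ι_map_comp_totFun_map α ψ (k ≫ a)).symm.trans
          ((congrArg CoGrothendieck.Hom.base hab').trans (base_ι_map_comp_totFun_map α ψ (k ≫ b)))).trans
        ((congrArg CoGrothendieck.Hom.base hφb).trans (base_ι_map_comp_cart fb U φb))))
    let ηi := (Cat.Hom.toNatIso (α.naturality fa.op.toLoc)).app U
    have key : ψ ≫ (fibFun α R).map φa = ψ ≫ (fibFun α R).map φb := by
      have e : ∀ φ, (ι F R).map ψ ≫ tmap α ((ι G R).map φ ≫ cart fa U) =
          (ι F R).map ((ψ ≫ (fibFun α R).map φ) ≫ ηi.hom) ≫ cart fa ((fibFun α T).obj U) := fun φ => by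
        have h1 : tmap α (cart fa U) = (ι F R).map ηi.hom ≫ cart fa ((fibFun α T).obj U) :=
          totFun_map_cart α fa U
        rw [← ι_map_comp_tmap α φ (cart fa U)]
        refine (congrArg (fun m => (ι F R).map ψ ≫ (ι F R).map ((fibFun α R).map φ) ≫ m) h1).trans ?_
        simp only [Functor.map_comp, Category.assoc]
        rfl
      exact (cancel_mono ηi.hom).1 (eq_of_ι_map_comp_cart ((e φa).symm.trans
        (((congrArg (fun m => (ι F R).map ψ ≫ tmap α m) hφa).symm.trans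
          (hab'.trans (congrArg (fun m => (ι F R).map ψ ≫ tmap α m) hφb))).trans (e φb))))
    refine (loc_total ((h R).equ φa φb ψ key)).mono ?_
    rintro d v ⟨V', w, r, ⟨W', e, g, he, hg⟩, rfl⟩
    refine ⟨(ι G R).obj W', (ι G R).map e ≫ k, r ≫ (ι F R).map g, ?_, lift_eq α r w g e ψ k hg⟩
    refine ((Category.assoc _ _ _).trans (congrArg (fun m => (ι G R).map e ≫ m) hφa)).trans
      (Eq.trans ?_ ((Category.assoc _ _ _).trans (congrArg (fun m => (ι G R).map e ≫ m) hφb)).symm)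
    rw [← Category.assoc, ← Functor.map_comp, he, Functor.map_comp, Category.assoc]

include hG in
/-- Continuity of the total functor from continuity of the fibre functors. -/
theorem isContinuous_totFun (hF : FibSite.IsPreFibSite F J)
    (h : ∀ S, (fibFun α S).IsContinuous (K S) (J S)) :
    (totFun α).IsContinuous (FibSite.totalTopology G K) (FibSite.totalTopology F J) := by
  rw [isContinuous_iff hG]
  intro S
  have := h S
  have := isContinuous_ι hF S
  have : (fibFun α S ⋙ ι F S).IsContinuous (K S) (FibSite.totalTopology F J) :=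
    Functor.isContinuous_comp _ _ _ (J S) _
  exact Functor.isContinuous_of_iso (ιCompIso α S).symm _ _

include hF hG in
/-- Continuity of the fibre functors from continuity of the total functor. -/
theorem isContinuous_fibFun
    [(totFun α).IsContinuous (FibSite.totalTopology G K) (FibSite.totalTopology F J)] (S : 𝒮) :
    (fibFun α S).IsContinuous (K S) (J S) where
  op_comp_isSheaf_of_types Q U R hR x hx := by
    let η {A : (F.obj ⟨op S⟩)ᵒᵖ ⥤ Type u} : ((lanP (ι F S)).obj A) ⟶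
        ((presheafToSheaf (FibSite.totalTopology F J) (Type u)).obj ((lanP (ι F S)).obj A)).obj :=
      CategoryTheory.toSheafify (FibSite.totalTopology F J)
      ((lanP (ι F S)).obj A)
    let P : Sheaf (FibSite.totalTopology F J) (Type u) :=
      (presheafToSheaf _ _).obj ((lanP (ι F S)).obj Q.obj)
    let P1 : Sheaf (FibSite.totalTopology F J) (Type u) :=
      (presheafToSheaf _ _).obj ((lanP (ι F S)).obj (⊤_ _))
    let u : Q.obj ⟶ ⊤_ _ := terminal.from _
    let pu : P.obj ⟶ P1.obj := ((presheafToSheaf _ _).map ((lanP (ι F S)).map u)).hom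
    have hpu : ∀ X e, pu.app X (η.app X e) = η.app X (((lanP (ι F S)).map u).app X e) :=
      fun X e => (ConcreteCategory.congr_hom (NatTrans.congr_app (CategoryTheory.toSheafify_naturality
        (FibSite.totalTopology F J) ((lanP (ι F S)).map u)) X) e).symm
    let θ {A : (F.obj ⟨op S⟩)ᵒᵖ ⥤ Type u} {V : F.obj ⟨op S⟩} (a : A.obj (op V)) :=
      η.app (op ((ι F S).obj V)) (unitEl a)
    have hθ : ∀ {A : (F.obj ⟨op S⟩)ᵒᵖ ⥤ Type u} {V W : F.obj ⟨op S⟩} (w : W ⟶ V) (a : A.obj (op V)),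
        ((presheafToSheaf (FibSite.totalTopology F J) _).obj ((lanP (ι F S)).obj A)).obj.map
          ((ι F S).map w).op (θ a) = θ (A.map w.op a) := fun w a => by
      refine (NatTrans.naturality_apply η _ _).symm.trans ?_
      exact congrArg _ (map_ι_unitEl w a)
    have hinj : ∀ {V : F.obj ⟨op S⟩} (a b : Q.obj.obj (op V)), θ a = θ b → a = b := by
      intro V a b hab
      have hE := Presheaf.equalizerSieve_mem (FibSite.totalTopology F J) (η (A := Q.obj))
        (unitEl a) (unitEl b) hab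
      rw [mem_iff_ι hF] at hE
      refine (((isSheaf_iff_isSheaf_of_type _ _).1 Q.property).isSeparated _ hE).ext fun W w hw => ?_
      exact unitEl_injective ((map_ι_unitEl w a).symm.trans (hw.trans (map_ι_unitEl w b)))
    have hsurj : ∀ (V : F.obj ⟨op S⟩) (e : P.obj.obj (op ((ι F S).obj V))) (p),
        pu.app _ e = θ (A := ⊤_ _) p → ∃ r, θ r = e := by
      intro V e p he
      have hE := Presheaf.imageSieve_mem (FibSite.totalTopology F J) (η (A := Q.obj))
        (U := op ((ι F S).obj V)) e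
      rw [mem_iff_ι hF] at hE
      have hloc : Loc (J S) V fun W w => ∃ r, θ r = P.obj.map ((ι F S).map w).op e := by
        refine Loc.bind ⟨_, hE, fun _ _ hw => hw⟩ ?_
        rintro W w ⟨e₀, he₀⟩
        have h1 := hpu _ e₀
        rw [he₀, NatTrans.naturality_apply pu, he] at h1
        have hE' := Presheaf.equalizerSieve_mem (FibSite.totalTopology F J) (η (A := ⊤_ _))
          (((lanP (ι F S)).map u).app _ e₀) (unitEl ((⊤_ _ : (F.obj ⟨op S⟩)ᵒᵖ ⥤ Type u).map w.op p))
          (h1.symm.trans (hθ w p))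
        rw [mem_iff_ι hF] at hE'
        refine ⟨_, hE', fun W' w' hw' => ?_⟩
        obtain ⟨r, hr, -⟩ := exists_of_lan_map_eq_unitEl u
          ((NatTrans.naturality_apply ((lanP (ι F S)).map u) ((ι F S).map w').op e₀).trans
            (hw'.trans (map_ι_unitEl w' _)))
        refine ⟨r, ?_⟩
        show η.app _ (unitEl r) = _
        rw [← hr, NatTrans.naturality_apply, he₀, Functor.map_comp, op_comp, Functor.map_comp_apply]
      obtain ⟨E, hE, hE'⟩ := hloc
      let y : Presieve.FamilyOfElements Q.obj E.arrows := fun W w hw => (hE' w hw).choose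
      have hy : y.Compatible := fun Z₁ Z₂ Z g₁ g₂ w₁ w₂ hw₁ hw₂ hw => hinj _ _ (by
        rw [← hθ, ← hθ, (hE' w₁ hw₁).choose_spec, (hE' w₂ hw₂).choose_spec, ← Functor.map_comp_apply,
          ← Functor.map_comp_apply, ← op_comp, ← op_comp, ← Functor.map_comp, ← Functor.map_comp, hw])
      obtain ⟨r, hr, -⟩ := ((isSheaf_iff_isSheaf_of_type _ _).1 Q.property) E hE y hy
      refine ⟨r, (isSeparated_restr ((isSheaf_iff_isSheaf_of_type _ _).1 P.property).isSeparated S
        _ hE).ext fun W w hw => ?_⟩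
      exact (hθ w r).trans ((congrArg _ (hr w hw)).trans (hE' w hw).choose_spec)
    have := isContinuous_ι hG S
    have : (ι G S ⋙ totFun α).IsContinuous (K S) (FibSite.totalTopology F J) :=
      Functor.isContinuous_comp _ _ _ (FibSite.totalTopology G K) _
    have : (fibFun α S ⋙ ι F S).IsContinuous (K S) (FibSite.totalTopology F J) :=
      Functor.isContinuous_of_iso (ιCompIso α S) _ _
    have hP := Functor.op_comp_isSheaf_of_types (fibFun α S ⋙ ι F S) (K S) (FibSite.totalTopology F J) P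
    have hP1 := Functor.op_comp_isSheaf_of_types (fibFun α S ⋙ ι F S) (K S) (FibSite.totalTopology F J) P1
    let z : Presieve.FamilyOfElements ((fibFun α S ⋙ ι F S).op ⋙ P.obj) R.arrows :=
      fun W w hw => θ (x w hw)
    have hz : z.Compatible := fun Z₁ Z₂ Z g₁ g₂ w₁ w₂ hw₁ hw₂ hw =>
      (hθ _ _).trans ((congrArg _ (hx g₁ g₂ hw₁ hw₂ hw)).trans (hθ _ _).symm)
    obtain ⟨e, he, -⟩ := hP R hR z hz
    have he1 : pu.app _ e = θ (A := ⊤_ _) (point (op ((fibFun α S).obj U))) := by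
      refine (hP1.isSeparated R hR).ext fun W w hw => ?_
      show P1.obj.map ((ι F S).map _).op (pu.app _ e) = P1.obj.map ((ι F S).map _).op (θ _)
      rw [← NatTrans.naturality_apply pu, hθ]
      refine (congrArg _ (he w hw)).trans ((hpu _ _).trans (congrArg _ ?_))
      rw [lan_map_lanMk]
      exact congrArg _ (subsingleton_terminal _ _ _)
    obtain ⟨r, hr⟩ := hsurj _ e _ he1
    refine ⟨r, fun W w hw => hinj _ _ ((hθ _ r).symm.trans ((congrArg _ hr).trans (he w hw))), ?_⟩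
    intro r' hr'
    refine (hinj _ _ ((hP.isSeparated R hR).ext fun W w hw => ?_))
    show P.obj.map ((ι F S).map _).op (θ r') = P.obj.map ((ι F S).map _).op (θ r)
    rw [hr]
    exact (hθ _ r').trans ((congrArg _ (hr' w hw)).trans (he w hw).symm)

end Groth.Agent.FibSiteLib
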