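import Groth.Agent.FibSiteLib.Total
import Groth.Agent.FibSiteLib.Lan

/-!
# A fibre presheaf inside the restriction of its extension to the total category
-/

set_option autoImplicit false
universe u

open CategoryTheory CategoryTheory.Limits Opposite
open CategoryTheory.Pseudofunctor CategoryTheory.Pseudofunctor.CoGrothendieck

namespace Groth.Agent.FibSiteLib

variable {𝒮 : Type u} [SmallCategory 𝒮] {F : Pseudofunctor (LocallyDiscrete 𝒮ᵒᵖ) Cat.{u, u}}
  {i : 𝒮} {P Q : (F.obj ⟨op i⟩)ᵒᵖ ⥤ Type u} {V : F.obj ⟨op i⟩}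

/-- The unit, on elements. -/
noncomputable abbrev unitEl (a : P.obj (op V)) : ((lanP (ι F i)).obj P).obj (op ((ι F i).obj V)) :=
  lanMk (ι F i) (𝟙 _) a

lemma lanMk_ι_map {W : F.obj ⟨op i⟩} (φ : V ⟶ W) (p : P.obj (op W)) :
    lanMk (ι F i) ((ι F i).map φ) p = unitEl (P.map φ.op p) := by
  rw [unitEl, ← lanMk_comp_map, Category.id_comp]

lemma map_ι_unitEl {W : F.obj ⟨op i⟩} (w : W ⟶ V) (a : P.obj (op V)) :
    ((lanP (ι F i)).obj P).map ((ι F i).map w).op (unitEl a) = unitEl (P.map w.op a) := by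
  rw [unitEl, map_lanMk, Category.comp_id, lanMk_ι_map]

lemma exists_retraction :
    ∃ ψ : ((lanP (ι F i)).obj P).obj (op ((ι F i).obj V)) → Option (P.obj (op V)),
      (∀ a, ψ (unitEl a) = some a) ∧
      ∀ (W : F.obj ⟨op i⟩) (h : (ι F i).obj V ⟶ (ι F i).obj W) (p : P.obj (op W)),
        h.base ≠ 𝟙 i → ψ (lanMk (ι F i) h p) = none := by
  classical
  let Φ : ∀ W : F.obj ⟨op i⟩, ((ι F i).obj V ⟶ (ι F i).obj W) → P.obj (op W) → Option (P.obj (op V)) :=
    fun W h p => if hb : h.base = 𝟙 i then some (P.map (exists_ι_map_eq h hb).choose.op p) else none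
  have hΦ : ∀ (W : F.obj ⟨op i⟩) (φ : V ⟶ W) (p : P.obj (op W)),
      Φ W ((ι F i).map φ) p = some (P.map φ.op p) := fun W φ p => by
    have hb : ((ι F i).map φ).base = 𝟙 i := rfl
    simp only [Φ, dif_pos hb]
    rw [← ι_map_injective (exists_ι_map_eq _ hb).choose_spec]
  obtain ⟨ψ, hψ⟩ := exists_lanDesc (ι F i) (P := P) Φ fun W W' g h p => by
    have hbase : (g ≫ (ι F i).map h).base = g.base := Category.comp_id g.base
    by_cases hb : g.base = 𝟙 i
    · obtain ⟨φ, rfl⟩ := exists_ι_map_eq g hb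
      rw [← Functor.map_comp, hΦ, hΦ, op_comp, Functor.map_comp_apply]
    · have h0 : ∀ (W₀ : F.obj ⟨op i⟩) (h : (ι F i).obj V ⟶ (ι F i).obj W₀) (p : P.obj (op W₀)), h.base ≠ 𝟙 i → Φ W₀ h p = none :=
        fun W₀ h p hh => dif_neg hh
      rw [h0 W (g ≫ (ι F i).map h) p fun hh => hb (hbase.symm.trans hh), h0 W' g _ hb]
  refine ⟨ψ, fun a => ?_, fun W h p hb => ?_⟩
  · rw [unitEl, ← (ι F i).map_id, hψ, hΦ]
    simp
  · rw [hψ]; exact dif_neg hb

lemma unitEl_injective {a b : P.obj (op V)} (h : unitEl a = unitEl b) : a = b := by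
  obtain ⟨ψ, h1, -⟩ := exists_retraction (P := P) (V := V)
  exact Option.some_injective _ ((h1 a).symm.trans ((congrArg ψ h).trans (h1 b)))

/-- The unit square of the left Kan extension along a fibre inclusion is cartesian. -/
lemma exists_of_lan_map_eq_unitEl (u : P ⟶ Q) {e : ((lanP (ι F i)).obj P).obj (op ((ι F i).obj V))}
    {g : Q.obj (op V)} (he : ((lanP (ι F i)).map u).app _ e = unitEl g) :
    ∃ r, e = unitEl r ∧ u.app _ r = g := by
  obtain ⟨W, h, p, rfl⟩ := exists_lanMk (ι F i) e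
  rw [lan_map_lanMk] at he
  by_cases hb : h.base = 𝟙 i
  · obtain ⟨φ, rfl⟩ := exists_ι_map_eq h hb
    refine ⟨P.map φ.op p, lanMk_ι_map φ p, ?_⟩
    rw [lanMk_ι_map] at he
    rw [NatTrans.naturality_apply]
    exact unitEl_injective he
  · obtain ⟨ψ, h1, h2⟩ := exists_retraction (P := Q) (V := V)
    have := congrArg ψ he
    rw [h1, h2 W h _ hb] at this
    simp at this

variable {J : FibSite.Topologies F} (hF : FibSite.IsPreFibSite F J)
include hF

theorem W_of_W_lan_map (u : P ⟶ Q) (hu : (FibSite.totalTopology F J).W ((lanP (ι F i)).map u)) :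
    (J i).W u := by
  have h1 := hu.isLocallyInjective
  have h2 := hu.isLocallySurjective
  rw [GrothendieckTopology.W_iff_isLocallyBijective]
  refine ⟨⟨fun {X} a b hab => ?_⟩, ⟨fun {U} g => ?_⟩⟩
  · have h := Presheaf.equalizerSieve_mem (FibSite.totalTopology F J) ((lanP (ι F i)).map u)
      (unitEl (V := X.unop) a) (unitEl b) (by
        rw [lan_map_lanMk, lan_map_lanMk]; exact congrArg _ hab)
    rw [mem_totalTopology_iff hF] at h
    refine (J i).superset_covering ?_ h
    intro W w hw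
    exact unitEl_injective ((map_ι_unitEl w a).symm.trans (hw.trans (map_ι_unitEl w b)))
  · have h := Presheaf.imageSieve_mem (FibSite.totalTopology F J) ((lanP (ι F i)).map u)
      (unitEl (V := U) g)
    rw [mem_totalTopology_iff hF] at h
    refine (J i).superset_covering ?_ h
    intro W w ⟨e, he⟩
    obtain ⟨r, -, hr⟩ := exists_of_lan_map_eq_unitEl u (he.trans (map_ι_unitEl w g))
    exact ⟨r, hr⟩

end Groth.Agent.FibSiteLib
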